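import Cfsg.Agent.Mrg.Omega.NO3S.MFive.Basic
import Cfsg.Agent.Mrg.Omega.EK3.Rank
import Cfsg.Agent.Omega.NO3S.MFive.Wab

section


/-!
# LightL (E), `n = 5`: the last case, `J(O_2(D))` centralises `V` and FAIL (helper736 #25382)

Letters `0..4`, pairs `{0, 4}`, `{1, 2}`, fifth letter `3`.

* `CC z a b = C(z_a z_b)`, `DD z = C(z_0 z_4, z_1 z_2)`;
* `NB z a b c d = ⟨(z_c z_d)^C(z_a z_b)⟩`;
* `FailHyp L T B z` : the frame `Fr5`, `B` Sylow in `C(z_0 z_4)` centralises `z_1 z_2`, `J(O_2(D))` centralises `V`, and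
  FAIL: every `A ∈ AA(O_2(D))` centralising `N_04` centralises `⟨(z_1 z_2)^C(z_0 z_4)⟩`.
-/

set_option autoImplicit false
set_option linter.unusedSectionVars false
set_option linter.unusedVariables false

namespace Cfsg.Agent.Omega.NO3S.MFive

open Subgroup Cfsg Cfsg.Agent.ZN Cfsg.Agent.ZN.ChoiceBase
open Cfsg.Agent.ZN.ChoiceSit

universe u

variable {G : Type u} [Group G]

/-- `C_ab = C(z_a z_b)` -/
def CC (z : Fin 5 → G) (a b : Fin 5) : Subgroup G := centralizer {z a * z b}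

/-- `D = C(z_0 z_4, z_1 z_2)` -/
def DD (z : Fin 5 → G) : Subgroup G := CC z 0 4 ⊓ CC z 1 2

/-- `⟨(z_c z_d)^C(z_a z_b)⟩` -/
def NB (z : Fin 5 → G) (a b c d : Fin 5) : Subgroup G := nc (CC z a b) (zpowers (z c * z d))

/-- **The last case.** -/
structure FailHyp (L T B : Subgroup G) (z : Fin 5 → G) : Prop where
  fr : Fr5 L T z
  /-- `B` is a Sylow 2-subgroup of `C(z_0 z_4)` and centralises `z_1 z_2` -/
  sylB : Syl B (CC z 0 4)
  BC : B ≤ CC z 1 2
  /-- `⟨(z_1 z_2)^C(z_0 z_4)⟩` is a 2-group -/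
  p2 : IsPGroup 2 (NB z 0 4 1 2)
  /-- `J(O_2(D))` centralises `V` -/
  jV : ∀ A ∈ AA (o2 (DD z)), A ≤ centralizer (Set.range z)
  /-- FAIL -/
  fail : ∀ A ∈ AA (o2 (DD z)), A ≤ centralizer (N L z 0 4 : Set G) → A ≤ centralizer (NB z 0 4 1 2 : Set G)

end Cfsg.Agent.Omega.NO3S.MFive

end

section


/-!
# LightL (E), `n = 5`: relabelling of the frames of `MFive`

* `X_comp`, `V_comp`, `Zc_comp`, `Y_comp`, `N_comp`, `M_comp`, `W_comp` : `z ∘ σ`;
* `fr5_perm` : `Fr5 L T z` and `g ∈ L` inducing `σ` give `Fr5 L (T^g) (z ∘ σ)`.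
-/

set_option autoImplicit false
set_option linter.unusedSectionVars false

namespace Cfsg.Agent.Omega.NO3S.LN

open Subgroup Cfsg Cfsg.Agent.ZN Cfsg.Agent.ZN.ChoiceBase
open Cfsg.Agent.ZN.ChoiceSit
open Cfsg.Agent.Omega.NO3S.MFive
open Cfsg.Agent.Omega.EK3.Rank (NoOn)
open Cfsg.Agent.Omega.EK3.Lever (relIndex_cj)

universe u

variable {G : Type u} [Group G] {L T : Subgroup G} (z : Fin 5 → G) (σ : Equiv.Perm (Fin 5))

theorem X_comp (i j : Fin 5) : X (z ∘ σ) i j = X z (σ i) (σ j) := by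
  have e : {g | ∃ k, k ≠ i ∧ k ≠ j ∧ g = (z ∘ σ) k} = {g | ∃ k, k ≠ σ i ∧ k ≠ σ j ∧ g = z k} := by
    ext g
    constructor
    · rintro ⟨k, h1, h2, rfl⟩
      exact ⟨σ k, fun e => h1 (σ.injective e), fun e => h2 (σ.injective e), rfl⟩
    · rintro ⟨k, h1, h2, rfl⟩
      refine ⟨σ.symm k, ?_, ?_, ?_⟩
      · rintro rfl; exact h1 (σ.apply_symm_apply k).symm
      · rintro rfl; exact h2 (σ.apply_symm_apply k).symm
      · rw [Function.comp_apply, σ.apply_symm_apply]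
  rw [X, X, e]

theorem range_comp : Set.range (z ∘ σ) = Set.range z := σ.surjective.range_comp z

theorem V_comp : V (z ∘ σ) = V z := by rw [V, V, range_comp]

theorem Zc_comp (a b : Fin 5) : Zc (z ∘ σ) a b = Zc z (σ a) (σ b) := by
  have e : {g | ∃ c, c ≠ a ∧ c ≠ b ∧ g = (z ∘ σ) c} = {g | ∃ c, c ≠ σ a ∧ c ≠ σ b ∧ g = z c} := by
    ext g
    constructor
    · rintro ⟨k, h1, h2, rfl⟩
      exact ⟨σ k, fun e => h1 (σ.injective e), fun e => h2 (σ.injective e), rfl⟩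
    · rintro ⟨k, h1, h2, rfl⟩
      refine ⟨σ.symm k, ?_, ?_, ?_⟩
      · rintro rfl; exact h1 (σ.apply_symm_apply k).symm
      · rintro rfl; exact h2 (σ.apply_symm_apply k).symm
      · rw [Function.comp_apply, σ.apply_symm_apply]
  rw [Zc, Zc, e]

theorem Y_comp_le (L : Subgroup G) (a b : Fin 5) : Y L (z ∘ σ) a b ≤ Y L z (σ a) (σ b) := by
  refine sup_le le_sup_left (iSup_le fun k => iSup_le fun l => iSup_le ?_)
  rintro ⟨hkl, ⟨h1, h2⟩, h3, h4⟩
  rw [X_comp]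
  exact X_le_Y (fun e => hkl (σ.injective e)) (fun e => h1 (σ.injective e)) (fun e => h2 (σ.injective e))
    (fun e => h3 (σ.injective e)) (fun e => h4 (σ.injective e))

theorem comp_symm : (z ∘ σ) ∘ σ.symm = z := by
  ext a
  rw [Function.comp_apply, Function.comp_apply, σ.apply_symm_apply]

theorem Y_comp (L : Subgroup G) (a b : Fin 5) : Y L (z ∘ σ) a b = Y L z (σ a) (σ b) := by
  refine le_antisymm (Y_comp_le z σ L a b) ?_
  have h1 := Y_comp_le (z ∘ σ) σ.symm L (σ a) (σ b)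
  rwa [comp_symm, σ.symm_apply_apply, σ.symm_apply_apply] at h1

theorem N_comp (L : Subgroup G) (a b : Fin 5) : N L (z ∘ σ) a b = N L z (σ a) (σ b) := by
  rw [N, N, Y_comp, Zc_comp]

theorem M_comp_le (L : Subgroup G) (a : Fin 5) : M L (z ∘ σ) a ≤ M L z (σ a) := by
  refine sup_le le_sup_left (iSup_le fun k => iSup_le fun l => iSup_le ?_)
  rintro ⟨hkl, h1, h3⟩
  rw [X_comp]
  exact X_le_Mij (fun e => hkl (σ.injective e)) (fun e => h1 (σ.injective e)) (fun e => h3 (σ.injective e))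

theorem M_comp (L : Subgroup G) (a : Fin 5) : M L (z ∘ σ) a = M L z (σ a) := by
  refine le_antisymm (M_comp_le z σ L a) ?_
  have h1 := M_comp_le (z ∘ σ) σ.symm L (σ a)
  rwa [comp_symm, σ.symm_apply_apply] at h1

theorem W_comp (L : Subgroup G) (a : Fin 5) : W L (z ∘ σ) a = W L z (σ a) := by
  rw [W, W, M_comp, V_comp]

theorem CC_comp (a b : Fin 5) : CC (z ∘ σ) a b = CC z (σ a) (σ b) := rfl

theorem NB_comp (a b c d : Fin 5) : NB (z ∘ σ) a b c d = NB z (σ a) (σ b) (σ c) (σ d) := rfl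

variable {z σ} [Finite G]

theorem syl_cj {T X : Subgroup G} (g : G) (h : Syl T X) : Syl (cj g T) (cj g X) := by
  refine ⟨cj_mono g h.1, isPGroup_cj g h.2.1, fun R hR hR2 hTR => ?_⟩
  have h1 := h.2.2 (cj g⁻¹ R) (by have := cj_mono g⁻¹ hR; rwa [cj_inv_cj] at this) (isPGroup_cj g⁻¹ hR2)
    (by have := cj_mono g⁻¹ hTR; rwa [cj_inv_cj] at this)
  rw [← h1, cj_cj_inv]

theorem noOn_cj {O N : Subgroup G} (g : G) (h : NoOn O N) : NoOn (cj g O) (cj g N) := by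
  intro A hA hAO
  have h1 := h (cj g⁻¹ A) (isElementaryAbelian_cj g⁻¹ hA) (by
    have := cj_mono g⁻¹ hAO
    rwa [cj_inv_cj] at this)
  have h2 := relIndex_cj g (centralizer (N : Set G)) (cj g⁻¹ A)
  have h3 := relIndex_cj g (centralizer ((cj g⁻¹ A : Subgroup G) : Set G)) N
  rw [cj_centralizer, cj_cj_inv] at h2
  rw [cj_centralizer, cj_cj_inv] at h3
  rw [h2, h3]
  exact h1

/-- **Relabelling of `Fr5`.** -/
theorem fr5_perm (h : Fr5 L T z) {g : G} (hg : Ind L z g σ) : Fr5 L (cj g T) (z ∘ σ) where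
  sq a := h.sq _
  comm a b := h.comm _ _
  prod := by
    have h1 := congrArg (fun x => g * x * g⁻¹) h.prod
    have e : g * (z 1 * z 2 * z 3 * z 4) * g⁻¹ = (g * z 1 * g⁻¹) * (g * z 2 * g⁻¹) * (g * z 3 * g⁻¹) * (g * z 4 * g⁻¹) := by
      group
    simp only [e, hg.eq] at h1
    exact h1
  inj := h.inj.comp σ.injective
  act g' hg' := by
    obtain ⟨τ, hτ⟩ := h.act g' hg'
    refine ⟨σ.trans (τ.trans σ.symm), fun a => ?_⟩
    rw [Function.comp_apply, Function.comp_apply, hτ]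
    congr 1
    simp
  full τ := by
    obtain ⟨g', hg', h1⟩ := h.full (σ.symm.trans (τ.trans σ))
    refine ⟨g', hg', fun a => ?_⟩
    rw [Function.comp_apply, Function.comp_apply, h1]
    congr 1
    simp
  cv := by rw [range_comp]; exact h.cv
  TL := by
    rintro _ ⟨t, ht, rfl⟩
    exact mul_mem (mul_mem hg.mem (h.TL ht)) (inv_mem hg.mem)
  TX := by
    rw [X_comp, ← hg.X_eq]
    exact cj_mono g h.TX
  syl := by
    rw [Y_comp, ← hg.Y_eq]
    exact syl_cj g h.syl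
  wab := by
    rw [W_comp, ← hg.W_eq]
    exact isElementaryAbelian_cj g h.wab
  cw := by
    rw [W_comp, ← hg.W_eq, X_comp, ← hg.X_eq]
    have h1 := cj_mono g h.cw
    rw [cj_inf, cj_centralizer, cj_centralizer] at h1
    exact h1
  no := by
    rw [X_comp, N_comp, ← hg.X_eq, ← hg.N_eq, o2_cj]
    exact noOn_cj g h.no

end Cfsg.Agent.Omega.NO3S.LN

end

section


/-!
# THEOREM M5 with the split "EE empty / EE not empty" (helper237; for helper736 #25382)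

* `Lev L z` : some `F ≤ O_2(X_12)` moves `N_04` and has `[W_0, F] ≤ N_04` (the output of `Fr5.lever`);
* `Fr5.lev_of_J`, `Fr5.lev_of_offd` : from `J_03 ≠ J_04`; from an offender `A ≤ O_2(X_12)` on `W_0`;
* `Fr5.W_le'`, `Fr5.W_le_W'` : `W_0 ≤ N_03 N_04`, `W_a ≤ W_b W_c`;
* `Three L z` : `r ∈ L` over the 3-cycle with `[V+, r] ≤ N_04`.
-/

set_option autoImplicit false
set_option linter.unusedSectionVars false
set_option linter.unusedVariables false

namespace Cfsg.Agent.Omega.NO3S.MFive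

open Subgroup Cfsg Cfsg.Agent.ZN Cfsg.Agent.ZN.ChoiceBase
open Cfsg.Agent.ZN.ChoiceSit
open Cfsg.Agent.Omega.NO3S.EThree
open Cfsg.Agent.Omega.NO3S.EThree.ExactA (eab_mono eab_sup eab_iff)
open Cfsg.Agent.Omega.EK3.Rank (NoOn mem_inf_of_mem_AA jj_inf_le offd_of_mem exists_moving card_jj_of_cj)
open Cfsg.Agent.Omega.EK3.Lever (Dt relIndex_cj)
open Cfsg.Agent.Omega.ESym.CoreS (mem_norm_of_le jj_norm jj_ne_bot)
open scoped commutatorElement

universe u

variable {G : Type u} [Group G]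

/-- some `F ≤ O_2(X_12)` moves `N_04` and has `[W_0, F] ≤ N_04` -/
def Lev (L : Subgroup G) (z : Fin 5 → G) : Prop :=
  ∃ F : Subgroup G, F ≤ o2 (X z 1 2) ∧ ¬ F ≤ centralizer (N L z 0 4 : Set G) ∧
    ∀ e ∈ W L z 0, ∀ f ∈ F, ⁅e, f⁆ ∈ N L z 0 4

/-- the output of THEOREM M5, case I, used in `FailEnd` -/
def Three (L : Subgroup G) (z : Fin 5 → G) : Prop :=
  ∃ r σ, Ind L z r σ ∧ σ 0 = 0 ∧ σ 4 = 4 ∧ σ 1 = 2 ∧ σ 2 = 3 ∧ σ 3 = 1 ∧
    ∀ v ∈ (⨆ a, W L z a), ⁅v, r⁆ ∈ N L z 0 4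

variable [Finite G] {L T : Subgroup G} {z : Fin 5 → G}

section main

variable (h : Fr5 L T z)
include h

theorem Fr5.lev_of_J (hJ : jj (o2 (Y L z 0 3)) ≠ jj (o2 (Y L z 0 4))) : Lev L z := h.lever hJ

theorem Fr5.lev_of_offd {A : Subgroup G} (hAO : A ≤ o2 (X z 1 2)) (hA : IsElementaryAbelian 2 A)
    (hoff : Offd (W L z 0) A) : Lev L z := by
  obtain ⟨g, σ, hg, hX, hO, h43, h34, y43, y34, hW⟩ := h.swap'
  obtain ⟨i, F, hFO, hFe, hFm, hF⟩ := h.dt.lever hAO hA hoff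
  cases i
  · exact ⟨F, hFO, hFm, hF⟩
  · refine ⟨cj g F, ?_, ?_, ?_⟩
    · have := cj_mono g hFO
      rwa [hO] at this
    · intro hc
      apply hFm
      change F ≤ centralizer (N L z 0 3 : Set G)
      rw [← h34, ← cj_centralizer] at hc
      have h1 := cj_mono g⁻¹ hc
      rwa [cj_inv_cj, cj_inv_cj] at h1
    · rintro e he _ ⟨f, hf, rfl⟩
      rw [← hW] at he
      obtain ⟨e, he, rfl⟩ := he
      have h1 : ⁅e, f⁆ ∈ N L z 0 3 := hF e he f hf
      rw [← h34]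
      refine ⟨_, h1, ?_⟩
      exact map_commutatorElement _ _ _

/-- (5) `M_0` normalises `N_03 N_04`: `W_0 ≤ N_03 N_04`. -/
theorem Fr5.W_le' (hL : Lev L z) : W L z 0 ≤ N L z 0 3 ⊔ N L z 0 4 := by
  obtain ⟨F, hFO, hFm, hF⟩ := hL
  have hYE : Y L z 0 4 ≤ normalizer (W L z 0 : Set G) := (Y_le_M_left 0 4).trans (M_norm_W 0)
  -- the normal closure of `F` in `Y_04`
  let K : Subgroup G := nc (Y L z 0 4) F
  have hFY : F ≤ Y L z 0 4 := hFO.trans h.O_le_Y04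
  have hKY : K ≤ Y L z 0 4 := nc_le hFY Subgroup.le_normalizer
  have hYK : Y L z 0 4 ≤ normalizer (K : Set G) := nc_norm _ _
  have hKN : K ≤ normalizer ((N L z 0 3 ⊔ N L z 0 4 : Subgroup G) : Set G) := by
    refine iSup_le fun y => ?_
    intro x hx
    refine mem_norm_of_le ?_
    rw [cj, Subgroup.map_sup]
    have hxY : x ∈ Y L z 0 4 := hKY (cj_le_nc y.2 hx)
    refine sup_le ?_ ?_
    · rintro _ ⟨n, hn, rfl⟩
      change x * n * x⁻¹ ∈ _
      obtain ⟨f, hf, e⟩ := hx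
      have e' : x = (y : G) * f * (y : G)⁻¹ := by rw [← e]; rfl
      have hnE : n ∈ W L z 0 := h.N03_le_W hn
      have hn' : (y : G)⁻¹ * n * y ∈ W L z 0 := by
        have := (mem_normalizer_iff.1 (hYE (inv_mem y.2)) n).1 hnE
        rwa [inv_inv] at this
      have h1 := hF _ hn' f hf
      have h2 : (y : G) * ⁅(y : G)⁻¹ * n * y, f⁆ * (y : G)⁻¹ ∈ N L z 0 4 :=
        (mem_normalizer_iff.1 (Y_norm_N 0 4 y.2) _).1 h1
      have h3 : ⁅n, x⁆ = (y : G) * ⁅(y : G)⁻¹ * n * y, f⁆ * (y : G)⁻¹ := by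
        rw [e']
        simp only [commutatorElement_def]
        group
      have h4 : x * n * x⁻¹ = ⁅n, x⁆⁻¹ * n := by
        simp only [commutatorElement_def]
        group
      rw [h4]
      exact mul_mem (inv_mem (mem_sup_right (by rw [h3]; exact h2))) (mem_sup_left hn)
    · have h1 := cj_eq_of_mem_normalizer (Y_norm_N 0 4 hxY)
      exact (le_of_eq h1).trans le_sup_right
  have hXN : X z 1 2 ≤ normalizer ((N L z 0 3 ⊔ N L z 0 4 : Subgroup G) : Set G) := fun x hx =>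
    norm_sup (Y_norm_N 0 3 (h.X_le_Y03 hx)) (Y_norm_N 0 4 (h.X_le_Y04 hx))
  have h04 : Y L z 0 4 ≤ normalizer ((N L z 0 3 ⊔ N L z 0 4 : Subgroup G) : Set G) :=
    (h.gen hKY hYK (le_nc _ _) (hFO.trans (ChoiceSit.o2_le _)) hFm).trans (sup_le hKN hXN)
  have h03 : Y L z 0 3 ≤ normalizer ((N L z 0 3 ⊔ N L z 0 4 : Subgroup G) : Set G) := by
    obtain ⟨g, σ, hg, hX, hO, h43, h34, y43, y34, hW⟩ := h.swap'
    have h1 := cj_mono g h04
    have e : cj g (N L z 0 3 ⊔ N L z 0 4) = N L z 0 3 ⊔ N L z 0 4 := by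
      have : cj g (N L z 0 3 ⊔ N L z 0 4) = cj g (N L z 0 3) ⊔ cj g (N L z 0 4) := Subgroup.map_sup _ _ _
      rw [this, h34, h43, sup_comm]
    rwa [y43, cj_normalizer, e] at h1
  refine nc_le ((closure_le _).2 ?_) (h.M_le.trans (sup_le h03 h04))
  have hz : ∀ c, c ≠ 0 → z c ∈ N L z 0 3 ⊔ N L z 0 4 := by
    intro c h0
    by_cases h4 : c = 4
    · rw [h4]
      exact mem_sup_left (z_mem_N (by decide) (by decide))
    · exact mem_sup_right (z_mem_N h0 h4)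
  rintro _ ⟨c, rfl⟩
  by_cases h0 : c = 0
  · rw [h0, h.prod]
    exact mul_mem (mul_mem (mul_mem (hz 1 (by decide)) (hz 2 (by decide))) (hz 3 (by decide))) (hz 4 (by decide))
  · exact hz c h0

/-- `W_a ≤ W_b W_c` -/
theorem Fr5.W_le_W' (hL : Lev L z) {a b c : Fin 5} (hab : a ≠ b) (hac : a ≠ c)
    (hbc : b ≠ c) : W L z a ≤ W L z b ⊔ W L z c := by
  have h1 : W L z 0 ≤ W L z 3 ⊔ W L z 4 :=
    (h.W_le' hL).trans (sup_le_sup (N_le_W_right 0 3) (N_le_W_right 0 4))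
  obtain ⟨τ, t0, t3, t4⟩ := perm_three (a := 0) (b := 3) (c := 4) (a' := a) (b' := b) (c' := c) (by decide)
    (by decide) (by decide) hab hac hbc
  obtain ⟨g, hg⟩ := h.ind τ
  have h2 := cj_mono g h1
  have e : cj g (W L z 3 ⊔ W L z 4) = cj g (W L z 3) ⊔ cj g (W L z 4) := Subgroup.map_sup _ _ _
  rwa [e, hg.W_eq, hg.W_eq, hg.W_eq, t0, t3, t4] at h2

end main

end Cfsg.Agent.Omega.NO3S.MFive

end

section


/-!
# LightL (E), `n = 5`, CASE I + `J(O_2(D)) ≤ C(V)` + FAIL (helper736 #25382)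

* `NN_le` : (1) `V+ = N_04 N_12`;
* `exists_mem` : (2) some member of `AA(O)` contains `V+`;
* `mem_iff` : (3) `Σ = {A ∈ AA(O) : A ≤ Q_04 ∩ Q_12} = {A ∈ AA(O) : [A, V+] = 1}`;
* `FailHyp.local_one` : (4) `⟨L, D⟩` normalises `⟨Σ⟩ ≠ 1`.
-/

set_option autoImplicit false
set_option linter.unusedSectionVars false
set_option linter.unusedVariables false

namespace Cfsg.Agent.Omega.NO3S.MFive

open Subgroup Cfsg Cfsg.Agent.ZN Cfsg.Agent.ZN.ChoiceBase
open Cfsg.Agent.ZN.ChoiceSit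
open Cfsg.Agent.Omega.NO3S.EThree
open Cfsg.Agent.Omega.NO3S.EThree.ExactA (eab_mono eab_sup eab_iff swp)
open Cfsg.Agent.Omega.EK3.Rank (NoOn)
open Cfsg.Agent.Omega.EK3.Lever (relIndex_cj)
open Cfsg.Agent.Omega.ESym.CoreS (mem_norm_of_le)
open Cfsg.Agent.Omega.NoFF.Basic (comm_symm)
open scoped commutatorElement

universe u

variable {G : Type u} [Group G]

/-! ### Conjugation -/

section ind

variable {L : Subgroup G} {z : Fin 5 → G} {g : G} {σ : Equiv.Perm (Fin 5)}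

theorem Ind.mul_eq (h : Ind L z g σ) (a b : Fin 5) : g * (z a * z b) * g⁻¹ = z (σ a) * z (σ b) := by
  rw [← h.eq, ← h.eq]
  group

theorem Ind.CC_le (h : Ind L z g σ) (a b : Fin 5) : cj g (CC z a b) ≤ CC z (σ a) (σ b) := by
  rintro _ ⟨x, hx, rfl⟩
  change g * x * g⁻¹ ∈ _
  rw [CC, mem_centralizer_iff]
  rintro _ rfl
  have h1 := mem_centralizer_iff.1 hx _ rfl
  rw [← h.mul_eq]
  calc g * (z a * z b) * g⁻¹ * (g * x * g⁻¹) = g * (z a * z b * x) * g⁻¹ := by group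
    _ = g * (x * (z a * z b)) * g⁻¹ := by rw [h1]
    _ = g * x * g⁻¹ * (g * (z a * z b) * g⁻¹) := by group

theorem Ind.CC_eq (h : Ind L z g σ) (a b : Fin 5) : cj g (CC z a b) = CC z (σ a) (σ b) :=
  eq_of_le (F := CC z) (fun g σ h => h.CC_le) h a b

theorem Ind.NB_eq (h : Ind L z g σ) (a b c d : Fin 5) : cj g (NB z a b c d) = NB z (σ a) (σ b) (σ c) (σ d) := by
  rw [NB, cj_nc, h.CC_eq, NB]
  congr 1
  rw [cj, MonoidHom.map_zpowers]
  congr 1
  exact h.mul_eq c d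

theorem CC_comm (hc : ∀ a b, z a * z b = z b * z a) (a b : Fin 5) : CC z a b = CC z b a := by
  rw [CC, hc, CC]

theorem NB_comm (hc : ∀ a b, z a * z b = z b * z a) (a b c d : Fin 5) : NB z a b c d = NB z b a d c := by
  rw [NB, CC_comm hc, hc c d, NB]

/-- the join of all `W_a` -/
theorem Ind.NN_eq (h : Ind L z g σ) : cj g (⨆ a, W L z a) = ⨆ a, W L z a := by
  rw [cj, Subgroup.map_iSup]
  apply le_antisymm
  · refine iSup_le fun a => ?_
    have := h.W_eq a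
    rw [cj] at this
    rw [this]
    exact le_iSup (W L z) (σ a)
  · refine iSup_le fun a => ?_
    have := h.W_eq (σ⁻¹ a)
    have e : σ (σ⁻¹ a) = a := by simp
    rw [cj, e] at this
    rw [← this]
    exact le_iSup (fun a => Subgroup.map (MulAut.conj g).toMonoidHom (W L z a)) (σ⁻¹ a)

end ind

section gen

variable {L : Subgroup G} {z : Fin 5 → G}

/-- a property of the permutations, closed under products, true for the permutations preserving `{0, 4}` or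
`{1, 2}`, holds for all permutations. -/
theorem perm_gen {P : Equiv.Perm (Fin 5) → Prop} (hm : ∀ σ τ, P σ → P τ → P (σ * τ))
    (h04 : ∀ σ : Equiv.Perm (Fin 5), (σ 0 = 0 ∧ σ 4 = 4) ∨ (σ 0 = 4 ∧ σ 4 = 0) → P σ)
    (h12 : ∀ σ : Equiv.Perm (Fin 5), (σ 1 = 1 ∧ σ 2 = 2) ∨ (σ 1 = 2 ∧ σ 2 = 1) → P σ)
    (σ : Equiv.Perm (Fin 5)) : P σ := by
  have hsw : ∀ i j : Fin 5, i ≠ j → P (Equiv.swap i j) := by
    have h3 : ∀ i : Fin 5, P (Equiv.swap i 3) := by
      intro i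
      fin_cases i
      · exact h12 _ (Or.inl ⟨by decide, by decide⟩)
      · exact h04 _ (Or.inl ⟨by decide, by decide⟩)
      · exact h04 _ (Or.inl ⟨by decide, by decide⟩)
      · exact h04 _ (Or.inl ⟨by decide, by decide⟩)
      · exact h12 _ (Or.inl ⟨by decide, by decide⟩)
    intro i j hij
    by_cases hi : i = 3
    · rw [hi, Equiv.swap_comm]
      exact h3 j
    by_cases hj : j = 3
    · rw [hj]
      exact h3 i
    have e : Equiv.swap i j = Equiv.swap i 3 * Equiv.swap j 3 * Equiv.swap i 3 := by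
      clear h3
      revert i j
      decide
    rw [e]
    exact hm _ _ (hm _ _ (h3 i) (h3 j)) (h3 i)
  refine Equiv.Perm.swap_induction_on σ (h04 1 (Or.inl ⟨rfl, rfl⟩)) fun f x y hxy hf => hm _ _ (hsw x y hxy) hf

end gen

/-! ### (1) `V+ = N_04 N_12` -/

section one

variable [Finite G] {L T B : Subgroup G} {z : Fin 5 → G}

theorem N_comm' (a b : Fin 5) : N L z a b = N L z b a := by
  have e : Zc z a b = Zc z b a := by
    rw [Zc, Zc]
    congr 1
    ext g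
    constructor
    · rintro ⟨c, h1, h2, h3⟩
      exact ⟨c, h2, h1, h3⟩
    · rintro ⟨c, h1, h2, h3⟩
      exact ⟨c, h2, h1, h3⟩
  rw [N, Y_comm, e, N]

variable (h : Fr5 L T z) (hL : Lev L z)
include h hL

theorem Fr5.W_le_N {a b c : Fin 5} (hab : a ≠ b) (hac : a ≠ c) (hbc : b ≠ c) :
    W L z a ≤ N L z a b ⊔ N L z a c := by
  obtain ⟨τ, t0, t3, t4⟩ := perm_three (a := 0) (b := 3) (c := 4) (a' := a) (b' := b) (c' := c) (by decide)
    (by decide) (by decide) hab hac hbc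
  obtain ⟨g, hg⟩ := h.ind τ
  have h2 := cj_mono g (h.W_le' hL)
  have e : cj g (N L z 0 3 ⊔ N L z 0 4) = cj g (N L z 0 3) ⊔ cj g (N L z 0 4) := Subgroup.map_sup _ _ _
  rwa [e, hg.W_eq, hg.N_eq, hg.N_eq, t0, t3, t4] at h2

theorem Fr5.NN_le_W : (⨆ a, W L z a) ≤ W L z 1 ⊔ W L z 2 := by
  refine iSup_le fun a => ?_
  by_cases h1 : a = 1
  · rw [h1]
    exact le_sup_left
  by_cases h2 : a = 2
  · rw [h2]
    exact le_sup_right
  exact h.W_le_W' hL h1 h2 (by decide)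

theorem Fr5.NN_le_three : (⨆ a, W L z a) ≤ N L z 1 2 ⊔ N L z 1 3 ⊔ N L z 2 3 := by
  refine (h.NN_le_W hL).trans (sup_le ?_ ?_)
  · exact (h.W_le_N hL (a := 1) (b := 2) (c := 3) (by decide) (by decide) (by decide)).trans le_sup_left
  · refine (h.W_le_N hL (a := 2) (b := 1) (c := 3) (by decide) (by decide) (by decide)).trans (sup_le ?_ le_sup_right)
    rw [N_comm']
    exact le_sup_left.trans le_sup_left

theorem Fr5.NN_ab : (⨆ a, W L z a) ≤ centralizer ((⨆ a, W L z a : Subgroup G) : Set G) := by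
  have hW : ∀ a, W L z a ≤ centralizer (W L z a : Set G) := fun a => (eab_iff.1 (h.Wa_ab a)).1
  have h12 : N L z 1 2 ≤ centralizer (N L z 1 2 ⊔ N L z 1 3 ⊔ N L z 2 3 : Subgroup G) := by
    apply comm_symm
    refine sup_le (sup_le ?_ ?_) ?_
    · exact (N_le_W_left 1 2).trans ((hW 1).trans (centralizer_le (N_le_W_left 1 2)))
    · exact (N_le_W_left 1 3).trans ((hW 1).trans (centralizer_le (N_le_W_left 1 2)))
    · exact (N_le_W_left 2 3).trans ((hW 2).trans (centralizer_le (N_le_W_right 1 2)))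
  have h13 : N L z 1 3 ≤ centralizer (N L z 1 2 ⊔ N L z 1 3 ⊔ N L z 2 3 : Subgroup G) := by
    apply comm_symm
    refine sup_le (sup_le ?_ ?_) ?_
    · exact (N_le_W_left 1 2).trans ((hW 1).trans (centralizer_le (N_le_W_left 1 3)))
    · exact (N_le_W_left 1 3).trans ((hW 1).trans (centralizer_le (N_le_W_left 1 3)))
    · exact (N_le_W_right 2 3).trans ((hW 3).trans (centralizer_le (N_le_W_right 1 3)))
  have h23 : N L z 2 3 ≤ centralizer (N L z 1 2 ⊔ N L z 1 3 ⊔ N L z 2 3 : Subgroup G) := by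
    apply comm_symm
    refine sup_le (sup_le ?_ ?_) ?_
    · exact (N_le_W_right 1 2).trans ((hW 2).trans (centralizer_le (N_le_W_left 2 3)))
    · exact (N_le_W_right 1 3).trans ((hW 3).trans (centralizer_le (N_le_W_right 2 3)))
    · exact (N_le_W_left 2 3).trans ((hW 2).trans (centralizer_le (N_le_W_left 2 3)))
  have h1 := h.NN_le_three hL
  exact (h1.trans (sup_le (sup_le h12 h13) h23)).trans (centralizer_le h1)

/-- (1) -/
theorem Fr5.NN_le (h3 : Three L z) : (⨆ a, W L z a) ≤ N L z 0 4 ⊔ N L z 1 2 := by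
  obtain ⟨r, σ, hr, s0, s4, s1, s2, s3, hc⟩ := h3
  have key : ∀ n ∈ (⨆ a, W L z a), r * n * r⁻¹ = ⁅n, r⁆⁻¹ * n := by
    intro n hn
    simp only [commutatorElement_def]
    group
  have h12 : N L z 1 2 ≤ ⨆ a, W L z a := (N_le_W_left 1 2).trans (le_iSup (W L z) 1)
  have h23' : N L z 2 3 ≤ ⨆ a, W L z a := (N_le_W_left 2 3).trans (le_iSup (W L z) 2)
  have h23 : N L z 2 3 ≤ N L z 0 4 ⊔ N L z 1 2 := by
    have e := hr.N_eq 1 2
    rw [s1, s2] at e
    rw [← e]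
    rintro _ ⟨n, hn, rfl⟩
    change r * n * r⁻¹ ∈ _
    rw [key n (h12 hn)]
    exact mul_mem (inv_mem (mem_sup_left (hc n (h12 hn)))) (mem_sup_right hn)
  have h13 : N L z 1 3 ≤ N L z 0 4 ⊔ N L z 1 2 := by
    have e := hr.N_eq 2 3
    rw [s2, s3] at e
    rw [N_comm', ← e]
    rintro _ ⟨n, hn, rfl⟩
    change r * n * r⁻¹ ∈ _
    rw [key n (h23' hn)]
    exact mul_mem (inv_mem (mem_sup_left (hc n (h23' hn)))) (h23 hn)
  exact (h.NN_le_three hL).trans (sup_le (sup_le le_sup_right h13) h23)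

end one

/-! ### The groups `D`, `Q_04`, `Q_12` -/

section two

variable [Finite G] {L T B : Subgroup G} {z : Fin 5 → G} (f : FailHyp L T B z)
include f

/-- `s ∈ L` inducing `(0 1)(4 2)` -/
theorem FailHyp.sw : ∃ g σ, Ind L z g σ ∧ σ 0 = 1 ∧ σ 1 = 0 ∧ σ 4 = 2 ∧ σ 2 = 4 ∧ σ 3 = 3 := by
  obtain ⟨g, hg⟩ := f.fr.ind (Equiv.swap 0 1 * Equiv.swap 4 2)
  exact ⟨g, _, hg, by decide, by decide, by decide, by decide, by decide⟩

omit f in
theorem DD_le_left : DD z ≤ CC z 0 4 := inf_le_left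

omit f in
theorem DD_le_right : DD z ≤ CC z 1 2 := inf_le_right

omit f in
theorem mul_mem_V (a b : Fin 5) : z a * z b ∈ V z := mul_mem (z_mem_V a) (z_mem_V b)

omit f in
theorem X12_le_CC (hp : z 0 = z 1 * z 2 * z 3 * z 4) (hs : ∀ a, z a * z a = 1)
    (hc : ∀ a b, z a * z b = z b * z a) : X z 1 2 ≤ DD z := by
  intro x hx
  rw [mem_X_iff] at hx
  have h0 := hx 0 (by decide) (by decide)
  have h3 := hx 3 (by decide) (by decide)
  have h4 := hx 4 (by decide) (by decide)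
  have h04 : z 0 * z 4 * x = x * (z 0 * z 4) := by
    rw [mul_assoc, h4, ← mul_assoc, h0, mul_assoc]
  have e : z 1 * z 2 = z 0 * z 4 * z 3 := by
    rw [hp]
    calc z 1 * z 2 = z 1 * z 2 * (z 3 * (z 4 * z 4) * z 3) := by rw [hs 4, mul_one, hs 3, mul_one]
      _ = z 1 * z 2 * z 3 * z 4 * z 4 * z 3 := by group
  refine mem_inf.2 ⟨mem_centralizer_iff.2 ?_, mem_centralizer_iff.2 ?_⟩
  · rintro _ rfl
    exact h04
  · rintro _ rfl
    rw [e, mul_assoc, h3, ← mul_assoc, h04, mul_assoc]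

theorem FailHyp.X12_le : X z 1 2 ≤ DD z := X12_le_CC f.fr.prod f.fr.sq f.fr.comm

theorem FailHyp.DD_cj {g : G} {σ : Equiv.Perm (Fin 5)} (hg : Ind L z g σ) (h0 : σ 0 = 1) (h1 : σ 1 = 0)
    (h4 : σ 4 = 2) (h2 : σ 2 = 4) : cj g (DD z) = DD z := by
  rw [DD, cj_inf, hg.CC_eq, hg.CC_eq, h0, h1, h4, h2, inf_comm]

/-- `z_0 z_4 ∈ O_2(D)` -/
theorem FailHyp.z04_mem : z 0 * z 4 ∈ o2 (DD z) := by
  have h1 : zpowers (z 0 * z 4) ≤ o2 (DD z) := by
    refine ChoiceSit.le_o2 ?_ ?_ ?_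
    · intro x
      refine ⟨1, Subtype.ext ?_⟩
      obtain ⟨k, hk⟩ := mem_zpowers_iff.1 x.2
      have h2 : (z 0 * z 4) * (z 0 * z 4) = 1 := by
        calc (z 0 * z 4) * (z 0 * z 4) = z 0 * (z 4 * z 0) * z 4 := by group
          _ = z 0 * (z 0 * z 4) * z 4 := by rw [f.fr.comm 4 0]
          _ = (z 0 * z 0) * (z 4 * z 4) := by group
          _ = 1 := by rw [f.fr.sq, f.fr.sq, mul_one]
      change (x : G) ^ 2 ^ 1 = 1
      rw [← hk, pow_one, ← zpow_natCast, ← zpow_mul, mul_comm, zpow_mul, zpow_natCast, pow_two, h2, one_zpow]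
    · rw [zpowers_le]
      refine mem_inf.2 ⟨mem_centralizer_iff.2 ?_, mem_centralizer_iff.2 ?_⟩
      · rintro _ rfl
        rfl
      · rintro _ rfl
        have hc := f.fr.comm
        calc z 1 * z 2 * (z 0 * z 4) = z 1 * (z 2 * z 0) * z 4 := by group
          _ = (z 1 * z 0) * (z 2 * z 4) := by rw [hc 2 0]; group
          _ = z 0 * (z 1 * z 4) * z 2 := by rw [hc 1 0, hc 2 4]; group
          _ = z 0 * z 4 * (z 1 * z 2) := by rw [hc 1 4]; group
    · refine le_trans ?_ (centralizer_le_normalizer _)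
      rw [Subgroup.le_centralizer_iff, zpowers_le, mem_centralizer_iff]
      intro x hx
      exact (mem_centralizer_iff.1 (DD_le_left hx) _ rfl).symm
  exact h1 (mem_zpowers _)

theorem FailHyp.Q_le_D : o2 (CC z 0 4) ≤ DD z :=
  le_inf (ChoiceSit.o2_le _) ((ChoiceSit.o2_le_syl f.sylB).trans f.BC)

theorem FailHyp.Q_le_O : o2 (CC z 0 4) ≤ o2 (DD z) :=
  ChoiceSit.le_o2 (ChoiceSit.isPGroup_o2 _) f.Q_le_D (DD_le_left.trans (ChoiceSit.le_normalizer_o2 _))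

omit f in
theorem mem_CC_self (a b : Fin 5) : z a * z b ∈ CC z a b := by
  refine mem_centralizer_iff.2 ?_
  rintro _ rfl
  rfl

theorem FailHyp.mem_CC (a b c d : Fin 5) : z a * z b ∈ CC z c d := by
  refine mem_centralizer_iff.2 ?_
  rintro _ rfl
  have hc := f.fr.comm
  calc z c * z d * (z a * z b) = z c * (z d * z a) * z b := by group
    _ = (z c * z a) * (z d * z b) := by rw [hc d a]; group
    _ = z a * (z c * z b) * z d := by rw [hc c a, hc d b]; group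
    _ = z a * z b * (z c * z d) := by rw [hc c b]; group

theorem FailHyp.NB_le_Q : NB z 0 4 1 2 ≤ o2 (CC z 0 4) := by
  refine ChoiceSit.le_o2 f.p2 ?_ (nc_norm _ _)
  refine nc_le ?_ Subgroup.le_normalizer
  rw [zpowers_le]
  exact f.mem_CC _ _ _ _

theorem FailHyp.Q_cent : o2 (CC z 0 4) ≤ centralizer (NB z 0 4 1 2 : Set G) := by
  rw [Subgroup.le_centralizer_iff]
  refine nc_le ?_ ?_
  · rw [zpowers_le, mem_centralizer_iff]
    intro x hx
    exact (mem_centralizer_iff.1 (DD_le_right (f.Q_le_D hx)) _ rfl).symm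
  · have h1 := ChoiceSit.le_normalizer_o2 (CC z 0 4)
    intro x hx
    rw [mem_normalizer_iff_cj, cj_centralizer, cj_eq_of_mem_normalizer (h1 hx)]

/-- `C_O(NB) ≤ Q_04` -/
theorem FailHyp.le_Q {A : Subgroup G} (hA : A ≤ o2 (DD z)) (hc : A ≤ centralizer (NB z 0 4 1 2 : Set G)) :
    A ≤ o2 (CC z 0 4) := by
  set C : Subgroup G := CC z 0 4 ⊓ centralizer (NB z 0 4 1 2 : Set G) with hC
  have hCD : C ≤ DD z := by
    refine le_inf inf_le_left (inf_le_right.trans ?_)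
    refine centralizer_le ?_
    rintro _ rfl
    exact le_nc _ _ (mem_zpowers _)
  have hCn : CC z 0 4 ≤ normalizer (C : Set G) := by
    intro x hx
    have h2 : x ∈ normalizer (NB z 0 4 1 2 : Set G) := nc_norm _ _ hx
    rw [mem_normalizer_iff_cj, hC, cj_inf, cj_centralizer, cj_eq_of_mem_normalizer h2,
      cj_eq_of_mem_normalizer (Subgroup.le_normalizer hx)]
  have h1 : o2 (DD z) ⊓ C ≤ o2 C := by
    refine ChoiceSit.le_o2 ((ChoiceSit.isPGroup_o2 _).to_le inf_le_left) inf_le_right ?_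
    intro c hc
    rw [mem_normalizer_iff_cj, cj_inf, cj_eq_of_mem_normalizer (ChoiceSit.le_normalizer_o2 _ (hCD hc)),
      cj_eq_of_mem_normalizer (Subgroup.le_normalizer hc)]
  have h2 : o2 C ≤ o2 (CC z 0 4) := by
    refine ChoiceSit.le_o2 (ChoiceSit.isPGroup_o2 _) ((ChoiceSit.o2_le _).trans inf_le_left) ?_
    intro y hy
    rw [mem_normalizer_iff_cj, ← o2_cj, cj_eq_of_mem_normalizer (hCn hy)]
  refine le_trans (le_inf hA (le_inf (hA.trans ((ChoiceSit.o2_le _).trans DD_le_left)) hc)) (h1.trans h2)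

/-- `N_04 ≤ ⟨z_0 z_4⟩ NB` -/
theorem FailHyp.N_le : N L z 0 4 ≤ zpowers (z 0 * z 4) ⊔ NB z 0 4 1 2 := by
  have hY : Y L z 0 4 ≤ CC z 0 4 := by
    intro y hy
    have h1 := mem_centralizer_iff.1 (Y_le_cent 0 4 hy)
    have h0 := h1 (z 0) (Set.mem_insert _ _)
    have h4 := h1 (z 4) (Set.mem_insert_of_mem _ rfl)
    refine mem_centralizer_iff.2 ?_
    rintro _ rfl
    rw [mul_assoc, h4, ← mul_assoc, h0, mul_assoc]
  refine f.fr.N04_le.trans (nc_le ?_ ?_)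
  · rw [zpowers_le]
    have e : z 3 = z 0 * z 4 * (z 1 * z 2) := by
      have hp := f.fr.prod
      have hc := f.fr.comm
      have hs := f.fr.sq
      rw [hp]
      calc z 3 = (z 1 * z 1) * ((z 2 * z 2) * z 3 * (z 4 * z 4)) := by rw [hs, hs, hs]; simp
        _ = z 1 * (z 1 * z 2) * (z 2 * z 3) * z 4 * z 4 := by group
        _ = z 1 * (z 2 * z 1) * (z 2 * z 3) * z 4 * z 4 := by rw [hc 1 2]
        _ = z 1 * z 2 * (z 1 * z 2) * z 3 * (z 4 * z 4) := by group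
        _ = z 1 * z 2 * (z 1 * z 2 * z 3) := by rw [hs 4]; group
        _ = z 1 * z 2 * (z 1 * (z 3 * z 2)) := by rw [hc 3 2]; group
        _ = z 1 * z 2 * (z 1 * z 3 * z 2) := by group
        _ = z 1 * z 2 * (z 3 * z 1 * z 2) := by rw [hc 1 3]
        _ = z 1 * z 2 * z 3 * (z 4 * z 4) * (z 1 * z 2) := by rw [hs 4]; group
        _ = z 1 * z 2 * z 3 * z 4 * z 4 * (z 1 * z 2) := by group
    rw [e]
    exact mul_mem (mem_sup_left (mem_zpowers _)) (mem_sup_right (le_nc _ _ (mem_zpowers _)))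
  · intro y hy
    have hy' := hY hy
    refine norm_sup ?_ (nc_norm _ _ hy')
    refine centralizer_le_normalizer _ ?_
    rw [mem_centralizer_iff]
    intro x hx
    obtain ⟨k, hk⟩ := mem_zpowers_iff.1 hx
    rw [← hk]
    have h2 : Commute (z 0 * z 4) y := mem_centralizer_iff.1 hy' _ rfl
    exact (h2.zpow_left k).eq

theorem FailHyp.N04_le_O : N L z 0 4 ≤ o2 (DD z) := by
  refine f.N_le.trans (sup_le ?_ (f.NB_le_Q.trans f.Q_le_O))
  rw [zpowers_le]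
  exact f.z04_mem

theorem FailHyp.N12_le_O : N L z 1 2 ≤ o2 (DD z) := by
  obtain ⟨g, σ, hg, h0, h1, h4, h2, h3⟩ := f.sw
  have e := cj_mono g f.N04_le_O
  rwa [← o2_cj, f.DD_cj hg h0 h1 h4 h2, hg.N_eq, h0, h4] at e

/-- `[A, N_04] = 1` for `A ≤ Q_04` -/
theorem FailHyp.cent_N {A : Subgroup G} (hA : A ≤ o2 (CC z 0 4)) : A ≤ centralizer (N L z 0 4 : Set G) := by
  apply comm_symm
  refine f.N_le.trans (sup_le ?_ ?_)
  · rw [zpowers_le, mem_centralizer_iff]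
    intro x hx
    exact (mem_centralizer_iff.1 (DD_le_left (f.Q_le_D (hA hx))) _ rfl).symm
  · exact comm_symm (hA.trans f.Q_cent)

theorem FailHyp.cent_N' {A : Subgroup G} (hA : A ≤ o2 (CC z 1 2)) : A ≤ centralizer (N L z 1 2 : Set G) := by
  obtain ⟨g, σ, hg, h0, h1, h4, h2, h3⟩ := f.sw
  have e : cj g (CC z 1 2) = CC z 0 4 := by rw [hg.CC_eq, h1, h2]
  have h5 := f.cent_N (A := cj g A) (by
    have := cj_mono g hA
    rwa [← o2_cj, e] at this)
  have e2 : cj g (N L z 1 2) = N L z 0 4 := by rw [hg.N_eq, h1, h2]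
  rw [← e2, ← cj_centralizer] at h5
  have h6 := cj_mono g⁻¹ h5
  rwa [cj_inv_cj, cj_inv_cj] at h6

theorem FailHyp.X12_o2 {A : Subgroup G} (hA : A ≤ o2 (DD z)) (hV : A ≤ centralizer (Set.range z)) :
    A ≤ o2 (X z 1 2) := by
  have h1 : o2 (DD z) ⊓ X z 1 2 ≤ o2 (X z 1 2) := by
    refine ChoiceSit.le_o2 ((ChoiceSit.isPGroup_o2 _).to_le inf_le_left) inf_le_right ?_
    intro c hc
    rw [mem_normalizer_iff_cj, cj_inf, cj_eq_of_mem_normalizer (ChoiceSit.le_normalizer_o2 _ (f.X12_le hc)),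
      cj_eq_of_mem_normalizer (Subgroup.le_normalizer hc)]
  exact (le_inf hA (hV.trans (f.fr.C_le_X 1 2))).trans h1

/-- (NO) on `N_04` for `A ∈ AA(O)` -/
theorem FailHyp.no04 {A : Subgroup G} (hA : A ∈ AA (o2 (DD z))) :
    (centralizer (N L z 0 4 : Set G)).relIndex A ≤ (centralizer (A : Set G)).relIndex (N L z 0 4) :=
  f.fr.no A hA.1 (f.X12_o2 hA.2.1 (f.jV A hA))

theorem FailHyp.AA_cj {g : G} (hg : cj g (DD z) = DD z) {A : Subgroup G} (hA : A ∈ AA (o2 (DD z))) :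
    cj g A ∈ AA (o2 (DD z)) := by
  have h1 := cj_mem_AA g hA
  rwa [← o2_cj, hg] at h1

theorem FailHyp.no12 {A : Subgroup G} (hA : A ∈ AA (o2 (DD z))) :
    (centralizer (N L z 1 2 : Set G)).relIndex A ≤ (centralizer (A : Set G)).relIndex (N L z 1 2) := by
  obtain ⟨g, σ, hg, h0, h1, h4, h2, h3⟩ := f.sw
  have h5 := f.no04 (f.AA_cj (f.DD_cj hg h0 h1 h4 h2) hA)
  have e2 : cj g (N L z 1 2) = N L z 0 4 := by rw [hg.N_eq, h1, h2]
  rw [← e2, ← cj_centralizer, ← cj_centralizer, relIndex_cj, relIndex_cj] at h5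
  exact h5

theorem FailHyp.fail12 {A : Subgroup G} (hA : A ∈ AA (o2 (DD z))) (hc : A ≤ centralizer (N L z 1 2 : Set G)) :
    A ≤ centralizer (NB z 1 2 0 4 : Set G) := by
  obtain ⟨g, σ, hg, h0, h1, h4, h2, h3⟩ := f.sw
  have e2 : cj g (N L z 1 2) = N L z 0 4 := by rw [hg.N_eq, h1, h2]
  have h5 := cj_mono g hc
  rw [cj_centralizer, e2] at h5
  have h6 := f.fail _ (f.AA_cj (f.DD_cj hg h0 h1 h4 h2) hA) h5
  have e3 : cj g (NB z 1 2 0 4) = NB z 0 4 1 2 := by rw [hg.NB_eq, h0, h1, h2, h4]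
  rw [← e3, ← cj_centralizer] at h6
  have h7 := cj_mono g⁻¹ h6
  rwa [cj_inv_cj, cj_inv_cj] at h7

theorem FailHyp.le_Q12 {A : Subgroup G} (hA : A ≤ o2 (DD z)) (hc : A ≤ centralizer (NB z 1 2 0 4 : Set G)) :
    A ≤ o2 (CC z 1 2) := by
  obtain ⟨g, σ, hg, h0, h1, h4, h2, h3⟩ := f.sw
  have e1 : cj g (CC z 1 2) = CC z 0 4 := by rw [hg.CC_eq, h1, h2]
  have e3 : cj g (NB z 1 2 0 4) = NB z 0 4 1 2 := by rw [hg.NB_eq, h0, h1, h2, h4]
  have h5 := cj_mono g hA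
  rw [← o2_cj, f.DD_cj hg h0 h1 h4 h2] at h5
  have h6 := cj_mono g hc
  rw [cj_centralizer, e3] at h6
  have h7 := cj_mono g⁻¹ (f.le_Q h5 h6)
  rw [cj_inv_cj, ← e1, o2_cj, cj_inv_cj] at h7
  exact h7

theorem FailHyp.Q12_le_O : o2 (CC z 1 2) ≤ o2 (DD z) := by
  obtain ⟨g, σ, hg, h0, h1, h4, h2, h3⟩ := f.sw
  have e1 : cj g (CC z 0 4) = CC z 1 2 := by rw [hg.CC_eq, h0, h4]
  have h5 := cj_mono g f.Q_le_O
  rwa [← o2_cj, ← o2_cj, f.DD_cj hg h0 h1 h4 h2, e1] at h5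

/-- `Σ` -/
def Sig (L : Subgroup G) (z : Fin 5 → G) : Set (Subgroup G) :=
  {A | A ∈ AA (o2 (DD z)) ∧ A ≤ centralizer ((⨆ a, W L z a : Subgroup G) : Set G)}

theorem FailHyp.le_Qs {A : Subgroup G} (hA : A ∈ Sig L z) : A ≤ o2 (CC z 0 4) ∧ A ≤ o2 (CC z 1 2) := by
  obtain ⟨h1, h2⟩ := hA
  refine ⟨f.le_Q h1.2.1 (f.fail A h1 (h2.trans (centralizer_le ?_))),
    f.le_Q12 h1.2.1 (f.fail12 h1 (h2.trans (centralizer_le ?_)))⟩
  · exact (N_le_W_left 0 4).trans (le_iSup (W L z) 0)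
  · exact (N_le_W_left 1 2).trans (le_iSup (W L z) 1)

variable (hL : Lev L z) (h3 : Three L z)
include hL h3

theorem FailHyp.mem_Sig {A : Subgroup G} (hA : A ∈ AA (o2 (DD z))) (h04 : A ≤ o2 (CC z 0 4))
    (h12 : A ≤ o2 (CC z 1 2)) : A ∈ Sig L z := by
  refine ⟨hA, ?_⟩
  apply comm_symm
  exact (f.fr.NN_le hL h3).trans (sup_le (comm_symm (f.cent_N h04)) (comm_symm (f.cent_N' h12)))

/-- (2) -/
theorem FailHyp.exists_mem : ∃ A ∈ Sig L z, (⨆ a, W L z a) ≤ A := by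
  obtain ⟨A, hA⟩ := AA_nonempty (o2 (DD z))
  have hab := f.fr.NN_ab hL
  have hN04 : N L z 0 4 ≤ ⨆ a, W L z a := (N_le_W_left 0 4).trans (le_iSup (W L z) 0)
  have hN12 : N L z 1 2 ≤ ⨆ a, W L z a := (N_le_W_left 1 2).trans (le_iSup (W L z) 1)
  have e04 : IsElementaryAbelian 2 (N L z 0 4 : Subgroup G) := f.fr.eab04
  have e12 : IsElementaryAbelian 2 (N L z 1 2 : Subgroup G) := eab_mono (f.fr.Wa_ab 1) (N_le_W_left 1 2)
  obtain ⟨-, -, hA1⟩ := swp e04 f.N04_le_O hA (f.no04 hA)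
  obtain ⟨-, -, hA2⟩ := swp e12 f.N12_le_O hA1 (f.no12 hA1)
  refine ⟨_, ⟨hA2, ?_⟩, ?_⟩
  · have h1 : (⨆ a, W L z a) ≤
        ((A ⊓ centralizer (N L z 0 4 : Set G)) ⊔ N L z 0 4) ⊓ centralizer (N L z 1 2 : Set G) ⊔ N L z 1 2 := by
      refine (f.fr.NN_le hL h3).trans (sup_le (le_sup_of_le_left (le_inf le_sup_right ?_)) le_sup_right)
      exact hN04.trans (hab.trans (centralizer_le hN12))
    exact ((eab_iff.1 hA2.1).1).trans (centralizer_le h1)
  · refine (f.fr.NN_le hL h3).trans (sup_le (le_sup_of_le_left (le_inf le_sup_right ?_)) le_sup_right)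
    exact hN04.trans (hab.trans (centralizer_le hN12))

/-- (4) **CASE I + FAIL**: `⟨L, D⟩` normalises a nontrivial 2-group. -/
theorem FailHyp.local_one : ∃ R : Subgroup G, R ≠ ⊥ ∧ IsPGroup 2 R ∧ L ≤ normalizer (R : Set G) ∧
    DD z ≤ normalizer (R : Set G) := by
  have hmem : ∀ {A : Subgroup G}, A ∈ Sig L z → A ≤ sSup (Sig L z) := fun hA => le_sSup hA
  -- elements permuting `Σ` normalise its join
  have hcj : ∀ g : G, (∀ A ∈ Sig L z, cj g A ∈ Sig L z) → g ∈ normalizer ((sSup (Sig L z) : Subgroup G) : Set G) := by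
    intro g hg
    refine mem_norm_of_le ?_
    rw [sSup_eq_iSup', cj, Subgroup.map_iSup]
    refine iSup_le fun A => ?_
    exact le_iSup (fun A : Sig L z => (A : Subgroup G)) ⟨_, hg A A.2⟩
  have hmx : ∀ (g : G) (A : Subgroup G), A ∈ Sig L z → cj g A ≤ o2 (DD z) → cj g A ∈ AA (o2 (DD z)) := by
    intro g A hA hle
    rw [mem_AA_iff]
    exact ⟨isElementaryAbelian_cj g hA.1.1, hle, by rw [card_cj]; exact (mem_AA_iff.1 hA.1).2.2⟩
  have hNN : ∀ (g : G) (σ : Equiv.Perm (Fin 5)), Ind L z g σ → ∀ A ∈ Sig L z,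
      cj g A ≤ centralizer ((⨆ a, W L z a : Subgroup G) : Set G) := by
    intro g σ hg A hA
    have h1 := cj_mono g hA.2
    rwa [cj_centralizer, hg.NN_eq] at h1
  have h04 : ∀ g σ, Ind L z g σ → (σ 0 = 0 ∧ σ 4 = 4) ∨ (σ 0 = 4 ∧ σ 4 = 0) →
      g ∈ normalizer ((sSup (Sig L z) : Subgroup G) : Set G) := by
    intro g σ hg hσ
    refine hcj g fun A hA => ?_
    have e : cj g (CC z 0 4) = CC z 0 4 := by
      rw [hg.CC_eq]
      rcases hσ with ⟨h1, h2⟩ | ⟨h1, h2⟩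
      · rw [h1, h2]
      · rw [h1, h2, CC_comm f.fr.comm]
    have h1 := cj_mono g (f.le_Qs hA).1
    rw [← o2_cj, e] at h1
    exact ⟨hmx g A hA (h1.trans f.Q_le_O), hNN g σ hg A hA⟩
  have h12 : ∀ g σ, Ind L z g σ → (σ 1 = 1 ∧ σ 2 = 2) ∨ (σ 1 = 2 ∧ σ 2 = 1) →
      g ∈ normalizer ((sSup (Sig L z) : Subgroup G) : Set G) := by
    intro g σ hg hσ
    refine hcj g fun A hA => ?_
    have e : cj g (CC z 1 2) = CC z 1 2 := by
      rw [hg.CC_eq]
      rcases hσ with ⟨h1, h2⟩ | ⟨h1, h2⟩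
      · rw [h1, h2]
      · rw [h1, h2, CC_comm f.fr.comm]
    have h1 := cj_mono g (f.le_Qs hA).2
    rw [← o2_cj, e] at h1
    exact ⟨hmx g A hA (h1.trans f.Q12_le_O), hNN g σ hg A hA⟩
  obtain ⟨A₀, hA₀, hNA⟩ := f.exists_mem hL h3
  refine ⟨sSup (Sig L z), ?_, ?_, ?_, ?_⟩
  · intro e
    have h1 : z 0 ∈ sSup (Sig L z) := hmem hA₀ (hNA ((le_iSup (W L z) 0) (V_le_W 0 (z_mem_V 0))))
    rw [e] at h1
    exact f.fr.z_ne 0 (mem_bot.1 h1)
  · exact (ChoiceSit.isPGroup_o2 (DD z)).to_le (sSup_le fun A hA => hA.1.2.1)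
  · intro g hg
    obtain ⟨σ, hσ⟩ := f.fr.ind_of hg
    refine perm_gen (P := fun σ => ∀ g, Ind L z g σ → g ∈ normalizer ((sSup (Sig L z) : Subgroup G) : Set G))
      ?_ (fun σ h1 g h2 => h04 g σ h2 h1) (fun σ h1 g h2 => h12 g σ h2 h1) σ g hσ
    intro σ τ h1 h2 g hg
    obtain ⟨g₁, hg₁⟩ := f.fr.ind σ
    have h4 := hg₁.inv.mul hg
    rw [inv_mul_cancel_left] at h4
    have h5 := mul_mem (h1 g₁ hg₁) (h2 _ h4)
    rwa [mul_inv_cancel_left] at h5
  · intro g hg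
    refine hcj g fun A hA => ?_
    obtain ⟨h1, h2⟩ := f.le_Qs hA
    have e := cj_eq_of_mem_normalizer (Subgroup.le_normalizer hg : g ∈ normalizer (DD z : Set G))
    refine f.mem_Sig hL h3 (f.AA_cj e hA.1) ?_ ?_
    · have h4 := cj_mono g h1
      rwa [cj_eq_of_mem_normalizer (ChoiceSit.le_normalizer_o2 _ (DD_le_left hg))] at h4
    · have h4 := cj_mono g h2
      rwa [cj_eq_of_mem_normalizer (ChoiceSit.le_normalizer_o2 _ (DD_le_right hg))] at h4

end two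

end Cfsg.Agent.Omega.NO3S.MFive

end

section


/-!
# LightL, `n = 5`, CASE I of M5 (helper736 #25382, #25547 (P1)): the element `r`

* `Fr5.exists_three` : `Lev L z` gives `Three L z`: some `r ∈ L` inducing `(1 2 3)` on the letters satisfies
  `[W_0 … W_4, r] ≤ N_04`.
-/

set_option autoImplicit false
set_option linter.unusedSectionVars false
set_option linter.unusedVariables false

namespace Cfsg.Agent.Omega.NO3S.MFive

open Subgroup Cfsg Cfsg.Agent.ZN Cfsg.Agent.ZN.ChoiceBase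
open Cfsg.Agent.ZN.ChoiceSit
open Cfsg.Agent.Omega.NO3S.EThree
open Cfsg.Agent.Omega.NO3S.EThree.ExactA (eab_mono eab_sup eab_iff)
open scoped commutatorElement

universe u

section pure

variable {G : Type u} [Group G]

theorem three_mem_sup {A B : Subgroup G} (h : A ≤ normalizer (B : Set G)) {x : G} (hx : x ∈ A ⊔ B) :
    ∃ a ∈ A, a⁻¹ * x ∈ B := by
  rw [Subgroup.sup_eq_closure] at hx
  induction hx using closure_induction with
  | mem x hx =>
    rcases hx with hx | hx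
    · exact ⟨x, hx, by rw [inv_mul_cancel]; exact one_mem _⟩
    · exact ⟨1, one_mem _, by rwa [inv_one, one_mul]⟩
  | one => exact ⟨1, one_mem _, by simp⟩
  | mul x y _ _ h1 h2 =>
    obtain ⟨a, ha, hx⟩ := h1
    obtain ⟨b, hb, hy⟩ := h2
    refine ⟨a * b, mul_mem ha hb, ?_⟩
    have e : (a * b)⁻¹ * (x * y) = b⁻¹ * (a⁻¹ * x) * b⁻¹⁻¹ * (b⁻¹ * y) := by group
    rw [e]
    exact mul_mem ((mem_normalizer_iff.1 (h (inv_mem hb)) _).1 hx) hy
  | inv x _ h1 =>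
    obtain ⟨a, ha, hx⟩ := h1
    refine ⟨a⁻¹, inv_mem ha, ?_⟩
    have e : a⁻¹⁻¹ * x⁻¹ = a * (a⁻¹ * x)⁻¹ * a⁻¹ := by group
    rw [e]
    exact (mem_normalizer_iff.1 (h ha) _).1 (inv_mem hx)

/-- powers modulo `B` -/
theorem three_pow_mem {A B : Subgroup G} (h : A ≤ normalizer (B : Set G)) {a x : G} (ha : a ∈ A) (hx : a⁻¹ * x ∈ B)
    (n : ℕ) : (a ^ n)⁻¹ * x ^ n ∈ B := by
  induction n with
  | zero => simp
  | succ n ih =>
    have e : (a ^ (n + 1))⁻¹ * x ^ (n + 1) = a⁻¹ * ((a ^ n)⁻¹ * x ^ n) * a⁻¹⁻¹ * (a⁻¹ * x) := by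
      rw [pow_succ, pow_succ]
      group
    rw [e]
    exact mul_mem ((mem_normalizer_iff.1 (h (inv_mem ha)) _).1 ih) hx

/-- if `R = T (K ∩ R)` with a 2-group `T`, some `x ^ (2 ^ n)` lies in `K` -/
theorem three_exists_pow {T N : Subgroup G} (h : T ≤ normalizer (N : Set G)) (hT : IsPGroup 2 T) {x : G}
    (hx : x ∈ T ⊔ N) : ∃ n : ℕ, x ^ 2 ^ n ∈ N := by
  obtain ⟨a, ha, hax⟩ := three_mem_sup h hx
  obtain ⟨n, hn⟩ := hT ⟨a, ha⟩
  refine ⟨n, ?_⟩
  have h1 := three_pow_mem h ha hax (2 ^ n)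
  have h2 : a ^ 2 ^ n = 1 := by simpa using congrArg Subtype.val hn
  rwa [h2, inv_one, one_mul] at h1

/-- `[E, K] ≤ N` for the normal closure `K` of `F` -/
theorem three_comm_nc {H E N F : Subgroup G} (hE : H ≤ normalizer (E : Set G)) (hN : H ≤ normalizer (N : Set G))
    (hFH : F ≤ H) (hF : ∀ e ∈ E, ∀ f ∈ F, ⁅e, f⁆ ∈ N) : ∀ e ∈ E, ∀ x ∈ nc H F, ⁅e, x⁆ ∈ N := by
  have key : ∀ x ∈ nc H F, x ∈ H ∧ ∀ e ∈ E, ⁅e, x⁆ ∈ N := by
    intro x hx
    rw [nc, Subgroup.iSup_eq_closure] at hx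
    induction hx using closure_induction with
    | mem x hx =>
      obtain ⟨y, hy⟩ := Set.mem_iUnion.1 hx
      obtain ⟨f, hf, e⟩ := hy
      have e' : x = (y : G) * f * (y : G)⁻¹ := by rw [← e]; rfl
      refine ⟨by rw [e']; exact mul_mem (mul_mem y.2 (hFH hf)) (inv_mem y.2), fun n hn => ?_⟩
      have hn' : (y : G)⁻¹ * n * y ∈ E := by
        have := (mem_normalizer_iff.1 (hE (inv_mem y.2)) n).1 hn
        rwa [inv_inv] at this
      have h1 := hF _ hn' f hf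
      have h2 : (y : G) * ⁅(y : G)⁻¹ * n * y, f⁆ * (y : G)⁻¹ ∈ N := (mem_normalizer_iff.1 (hN y.2) _).1 h1
      have h3 : ⁅n, x⁆ = (y : G) * ⁅(y : G)⁻¹ * n * y, f⁆ * (y : G)⁻¹ := by
        rw [e']
        simp only [commutatorElement_def]
        group
      rwa [h3]
    | one => exact ⟨one_mem _, fun e _ => by simp⟩
    | mul x y _ _ h1 h2 =>
      refine ⟨mul_mem h1.1 h2.1, fun e he => ?_⟩
      have e1 : ⁅e, x * y⁆ = ⁅e, x⁆ * (x * ⁅e, y⁆ * x⁻¹) := by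
        simp only [commutatorElement_def]
        group
      rw [e1]
      exact mul_mem (h1.2 e he) ((mem_normalizer_iff.1 (hN h1.1) _).1 (h2.2 e he))
    | inv x _ h1 =>
      refine ⟨inv_mem h1.1, fun e he => ?_⟩
      have e1 : ⁅e, x⁻¹⁆ = x⁻¹ * ⁅e, x⁆⁻¹ * x⁻¹⁻¹ := by
        simp only [commutatorElement_def]
        group
      rw [e1]
      exact (mem_normalizer_iff.1 (hN (inv_mem h1.1)) _).1 (inv_mem (h1.2 e he))
  exact fun e he x hx => (key x hx).2 e he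

theorem Ind.pow {L : Subgroup G} {z : Fin 5 → G} {g : G} {σ : Equiv.Perm (Fin 5)} (h : Ind L z g σ) (n : ℕ) :
    Ind L z (g ^ n) (σ ^ n) := by
  induction n with
  | zero => simpa using Ind.one
  | succ n ih =>
    rw [pow_succ, pow_succ]
    exact ih.mul h

end pure

/-- the three-cycle -/
theorem perm_three_pow {σ : Equiv.Perm (Fin 5)} (h0 : σ 0 = 0) (h4 : σ 4 = 4) (h1 : σ 1 = 2) (h2 : σ 2 = 3)
    (h3 : σ 3 = 1) (n : ℕ) : σ ^ 4 ^ n = σ := by
  have hc : σ ^ 3 = 1 := by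
    ext a
    have e : (σ ^ 3) a = σ (σ (σ a)) := by
      simp [pow_succ]
    rw [e]
    fin_cases a <;> simp [h0, h4, h1, h2, h3]
  induction n with
  | zero => simp
  | succ n ih =>
    rw [pow_succ, pow_mul, ih]
    have e : σ ^ 4 = σ ^ 3 * σ := by rw [← pow_succ]
    rw [e, hc, one_mul]

variable {G : Type u} [Group G] [Finite G] {L T : Subgroup G} {z : Fin 5 → G}

theorem three_Zc_comm (a b : Fin 5) : Zc z a b = Zc z b a := by
  unfold Zc
  congr 1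
  ext g
  constructor
  · rintro ⟨c, h1, h2, h3⟩
    exact ⟨c, h2, h1, h3⟩
  · rintro ⟨c, h1, h2, h3⟩
    exact ⟨c, h2, h1, h3⟩

theorem three_N_comm (a b : Fin 5) : N L z a b = N L z b a := by
  rw [N, N, Y_comm, three_Zc_comm]

section main

variable (h : Fr5 L T z)
include h

/-- `K` normal in `Y_04` with `F ≤ K ∩ O_2(X_12)` moving `N_04`: `K ∩ R` moves `z_3` -/
theorem Fr5.inf_moves {K R : Subgroup G} (hKY : K ≤ Y L z 0 4) (hYK : Y L z 0 4 ≤ normalizer (K : Set G))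
    {F : Subgroup G} (hFK : F ≤ K) (hFX : F ≤ X z 1 2) (hFm : ¬ F ≤ centralizer (N L z 0 4 : Set G))
    (hTR : T ≤ R) (hRL : R ≤ L ⊓ centralizer {z 0, z 4}) (hRX : ¬ R ≤ X z 1 2)
    (hmin : ∀ R' : Subgroup G, T ≤ R' → R' ≤ R → ¬ R' ≤ X z 1 2 → R ≤ R') : ¬ K ⊓ R ≤ X z 1 2 := by
  intro hKR
  set Λ : Subgroup G := L ⊓ centralizer {z 0, z 4} with hΛ
  have hΛY : Λ ≤ Y L z 0 4 := cl_le_Y 0 4
  have hRY : R ≤ Y L z 0 4 := hRL.trans hΛY
  -- Frattini
  have hsK : Syl (T ⊓ K) K := SQ1.FFOne.syl_inf h.syl hKY fun y hy k hk =>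
    (mem_normalizer_iff.1 (hYK hy) k).1 hk
  have hsKL : Syl (T ⊓ K) (K ⊓ R) :=
    ⟨le_inf inf_le_right (inf_le_left.trans hTR), hsK.2.1, fun Q h1 h2 h3 => hsK.2.2 Q (h1.trans inf_le_left) h2 h3⟩
  have hRKR : ∀ g ∈ R, cj g (K ⊓ R) = K ⊓ R := by
    intro g hg
    rw [cj_inf, cj_eq_of_mem_normalizer (hYK (hRY hg)), cj_eq_of_mem_normalizer (Subgroup.le_normalizer hg)]
  have hfrat : R ≤ (K ⊓ R) ⊔ (R ⊓ normalizer ((T ⊓ K : Subgroup G) : Set G)) := by
    intro g hg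
    have h1 : Syl (cj g (T ⊓ K)) (K ⊓ R) := by
      refine ⟨?_, ?_, fun Q h1 h2 h3 => ?_⟩
      · have := cj_mono g hsKL.1
        rwa [hRKR g hg] at this
      · exact hsKL.2.1.map _
      · have h4 := hsKL.2.2 (cj g⁻¹ Q) (by
          have := cj_mono g⁻¹ h1
          rwa [hRKR g⁻¹ (inv_mem hg)] at this) (h2.map _) (by
          have := cj_mono g⁻¹ h3
          rwa [cj_inv_cj] at this)
        rw [← h4, cj_cj_inv]
    obtain ⟨x, hx, e⟩ := syl_conj h1 hsKL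
    rw [cj_cj] at e
    have h2 : x * g ∈ R ⊓ normalizer ((T ⊓ K : Subgroup G) : Set G) :=
      mem_inf.2 ⟨mul_mem (mem_inf.1 hx).2 hg, mem_normalizer_iff_cj.2 e⟩
    have h3 := mul_mem (mem_sup_left (inv_mem hx) : x⁻¹ ∈ (K ⊓ R) ⊔ (R ⊓ normalizer ((T ⊓ K : Subgroup G) : Set G)))
      (mem_sup_right h2)
    rwa [inv_mul_cancel_left] at h3
  -- `R` normalises `T ∩ K`
  have hRN : R ≤ normalizer ((T ⊓ K : Subgroup G) : Set G) := by
    have h1 : T ≤ R ⊓ normalizer ((T ⊓ K : Subgroup G) : Set G) := by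
      refine le_inf hTR fun t ht => ?_
      rw [mem_normalizer_iff_cj, cj_inf, cj_eq_of_mem_normalizer (Subgroup.le_normalizer ht),
        cj_eq_of_mem_normalizer (hYK (h.TY ht))]
    by_cases h2 : R ⊓ normalizer ((T ⊓ K : Subgroup G) : Set G) ≤ X z 1 2
    · exact absurd (hfrat.trans (sup_le hKR h2)) hRX
    · exact (hmin _ h1 inf_le_left h2).trans inf_le_right
  -- `Y_04 = ⟨X_12, R⟩`
  have hΛR : Λ ≤ X z 1 2 ⊔ R := by
    rw [SetLike.not_le_iff_exists] at hRX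
    obtain ⟨ρ, hρR, hρX⟩ := hRX
    obtain ⟨τ, hτ, t0, t4⟩ := h.ind_cl (hRL hρR)
    have t3 : τ 3 ≠ 3 := by
      intro e
      exact hρX (mem_X12 h (hτ.comm_of t0) (hτ.comm_of e) (hτ.comm_of t4))
    have t30 : τ 3 ≠ 0 := fun e => absurd (τ.injective (e.trans t0.symm)) (by decide)
    have t34 : τ 3 ≠ 4 := fun e => absurd (τ.injective (e.trans t4.symm)) (by decide)
    intro g hg
    obtain ⟨σ, hσ, s0, s4⟩ := h.ind_cl hg
    by_cases s3 : σ 3 = 3
    · exact mem_sup_left (mem_X12 h (hσ.comm_of s0) (hσ.comm_of s3) (hσ.comm_of s4))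
    have s30 : σ 3 ≠ 0 := fun e => absurd (σ.injective (e.trans s0.symm)) (by decide)
    have s34 : σ 3 ≠ 4 := fun e => absurd (σ.injective (e.trans s4.symm)) (by decide)
    -- `x ∈ X_12` maps `τ 3` to `σ 3`
    obtain ⟨x, μ, hx, m0, m4, m3, mm⟩ : ∃ x μ, Ind L z x μ ∧ μ 0 = 0 ∧ μ 4 = 4 ∧ μ 3 = 3 ∧ μ (τ 3) = σ 3 := by
      obtain ⟨μ, m0, m4, m3, mm⟩ := perm_four (a := 0) (b := 4) (c := 3) (d := τ 3) (a' := 0) (b' := 4) (c' := 3)
        (d' := σ 3) (by decide) (by decide) (by decide) t30.symm t34.symm (fun e => t3 e.symm) (by decide)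
        (by decide) (by decide) s30.symm s34.symm (fun e => s3 e.symm)
      obtain ⟨x, hx⟩ := h.ind μ
      exact ⟨x, μ, hx, m0, m4, m3, mm⟩
    have hxX : x ∈ X z 1 2 := mem_X12 h (hx.comm_of m0) (hx.comm_of m3) (hx.comm_of m4)
    have hI := (hx.mul hτ).inv.mul hσ
    have h1 : (x * ρ)⁻¹ * g ∈ X z 1 2 := by
      refine mem_X12 h (hI.comm_of ?_) (hI.comm_of ?_) (hI.comm_of ?_)
      · rw [Equiv.Perm.mul_apply, Equiv.Perm.inv_eq_iff_eq, Equiv.Perm.mul_apply, s0, t0, m0]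
      · rw [Equiv.Perm.mul_apply, Equiv.Perm.inv_eq_iff_eq, Equiv.Perm.mul_apply, mm]
      · rw [Equiv.Perm.mul_apply, Equiv.Perm.inv_eq_iff_eq, Equiv.Perm.mul_apply, s4, t4, m4]
    have h2 : x * ρ ∈ X z 1 2 ⊔ R := mul_mem (mem_sup_left hxX) (mem_sup_right hρR)
    have h3 := mul_mem h2 (mem_sup_left h1 : (x * ρ)⁻¹ * g ∈ X z 1 2 ⊔ R)
    rwa [mul_inv_cancel_left] at h3
  have hYD : Y L z 0 4 ≤ X z 1 2 ⊔ R := h.Y_le_of le_sup_left hΛR
  have hDY : X z 1 2 ⊔ R ≤ Y L z 0 4 := sup_le h.X_le_Y04 hRY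
  have hWT : N L z 0 4 ≤ T := by
    refine (ChoiceSit.le_o2 (h.W_two.to_le h.N04_le_W) ?_ (Y_norm_N 0 4)).trans (ChoiceSit.o2_le_syl h.syl)
    exact h.N04_le_O.trans h.O_le_Y04
  have hz3 : z 3 ∈ N L z 0 4 ⊓ centralizer (X z 1 2 : Set G) := by
    refine mem_inf.2 ⟨z_mem_N (by decide) (by decide), mem_centralizer_iff.2 fun x hx => ?_⟩
    exact (mem_X_iff.1 hx 3 (by decide) (by decide)).symm
  have hmv : ∃ y ∈ X z 1 2 ⊔ R, ¬ F ≤ centralizer (cj y (N L z 0 4 ⊓ centralizer (X z 1 2 : Set G)) : Set G) := by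
    by_contra hcon
    push Not at hcon
    apply hFm
    rw [Subgroup.le_centralizer_iff]
    refine h.N04_le.trans (iSup_le fun y => ?_)
    have h1 := hcon y (hYD y.2)
    rw [Subgroup.le_centralizer_iff] at h1
    exact (cj_mono (y : G) (zpowers_le.2 hz3)).trans h1
  obtain ⟨y, hy, hFy⟩ := hmv
  refine EDel.QP.moves_of (B := T) (D := X z 1 2) (L := R) (W := N L z 0 4) (K := K)
    (Z := N L z 0 4 ⊓ centralizer (X z 1 2 : Set G)) h.sylX ?_ hWT ?_ ?_ ?_ inf_le_left ?_ ?_ ?_ ?_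
    (le_inf hFK hFX) hy hFy hRN
  · rw [Subgroup.le_centralizer_iff]
    exact inf_le_right
  · intro x hx y hy
    exact (mem_centralizer_iff.1 ((eab_iff.1 h.eab04).1 hy) x hx)
  · intro x hx
    have := (eab_iff.1 h.eab04).2 x hx
    rwa [pow_two] at this
  · exact hDY.trans (Y_norm_N 0 4)
  · exact le_inf inf_le_left ((inf_le_inf_right _ h.N04_le_W).trans h.cw)
  · exact hKY.trans hYD
  · exact hDY.trans hYK
  · intro x hx
    obtain ⟨h1, h2⟩ := mem_inf.1 hx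
    exact h.Y04_cent (hKY h1) (mem_centralizer_iff.1 h2 _ hz3)

theorem Fr5.T_le : T ≤ L ⊓ centralizer {z 0, z 4} := by
  intro t ht
  exact mem_cl_iff.2 ⟨h.TL ht, mem_X_iff.1 (h.TX ht) 0 (by decide) (by decide),
    mem_X_iff.1 (h.TX ht) 4 (by decide) (by decide)⟩

/-- some power `x ^ (2 ^ n)` of every `x ∈ R` lies in `K` -/
theorem Fr5.exists_pow {K R : Subgroup G} (hKY : K ≤ Y L z 0 4) (hYK : Y L z 0 4 ≤ normalizer (K : Set G))
    {F : Subgroup G} (hFK : F ≤ K) (hFX : F ≤ X z 1 2) (hFm : ¬ F ≤ centralizer (N L z 0 4 : Set G))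
    (hTR : T ≤ R) (hRL : R ≤ L ⊓ centralizer {z 0, z 4}) (hRX : ¬ R ≤ X z 1 2)
    (hmin : ∀ R' : Subgroup G, T ≤ R' → R' ≤ R → ¬ R' ≤ X z 1 2 → R ≤ R') {x : G} (hx : x ∈ R) :
    ∃ n : ℕ, x ^ 2 ^ n ∈ K := by
  have h1 := h.inf_moves hKY hYK hFK hFX hFm hTR hRL hRX hmin
  have h2 : R ≤ T ⊔ (K ⊓ R) := hmin _ le_sup_left (sup_le hTR inf_le_right) fun h2 => h1 (le_sup_right.trans h2)
  have hTn : T ≤ normalizer ((K ⊓ R : Subgroup G) : Set G) := by
    intro t ht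
    rw [mem_normalizer_iff_cj, cj_inf, cj_eq_of_mem_normalizer (hYK (h.TY ht)),
      cj_eq_of_mem_normalizer (Subgroup.le_normalizer (hTR ht))]
  obtain ⟨n, hn⟩ := three_exists_pow hTn h.syl.2.1 (h2 hx)
  exact ⟨n, (mem_inf.1 hn).1⟩

/-- `T` contains an element over `(1 2)` -/
theorem Fr5.exists_t : ∃ t ∈ T, ∃ σ, Ind L z t σ ∧ σ 0 = 0 ∧ σ 3 = 3 ∧ σ 4 = 4 ∧ σ 1 = 2 ∧ σ 2 = 1 := by
  obtain ⟨g, hg⟩ := h.ind (Equiv.swap 1 2)
  obtain ⟨k, m, hm, he⟩ := Nat.exists_eq_two_pow_mul_odd (orderOf_pos g).ne'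
  have hpw : (Equiv.swap (1 : Fin 5) 2) ^ m = Equiv.swap 1 2 := by
    obtain ⟨j, rfl⟩ := hm
    rw [pow_succ, pow_mul, pow_two, Equiv.swap_mul_self, one_pow, one_mul]
  have hgm : Ind L z (g ^ m) (Equiv.swap 1 2) := by
    have := hg.pow m
    rwa [hpw] at this
  have hmX : g ^ m ∈ X z 1 2 :=
    mem_X12 h (hgm.comm_of (by decide)) (hgm.comm_of (by decide)) (hgm.comm_of (by decide))
  have h2 : IsPGroup 2 (zpowers (g ^ m)) := by
    rintro ⟨y, hy⟩
    obtain ⟨i, rfl⟩ := mem_zpowers_iff.1 hy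
    refine ⟨k, Subtype.ext ?_⟩
    change ((g ^ m) ^ i) ^ 2 ^ k = 1
    rw [← zpow_natCast ((g ^ m) ^ i), zpow_comm, zpow_natCast, ← pow_mul, mul_comm m, ← he, pow_orderOf_eq_one,
      one_zpow]
  have hsA : Syl T (X z 1 2 ⊓ L) :=
    ⟨le_inf h.TX h.TL, h.syl.2.1, fun Q h1 h2 h3 => h.sylX.2.2 Q (h1.trans inf_le_left) h2 h3⟩
  obtain ⟨Q, hQ, hmQ⟩ := exists_syl h2 (zpowers_le.2 (mem_inf.2 ⟨hmX, hgm.mem⟩))
  obtain ⟨x, hx, e⟩ := syl_conj hQ hsA
  have hxL : x ∈ L := (mem_inf.1 hx).2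
  have htT : x * g ^ m * x⁻¹ ∈ T := by
    rw [← e]
    exact ⟨g ^ m, hmQ (mem_zpowers _), rfl⟩
  obtain ⟨τ, hτ⟩ := h.ind_of (h.TL htT)
  have t0 : τ 0 = 0 := h.fix hτ (mem_X_iff.1 (h.TX htT) 0 (by decide) (by decide))
  have t3 : τ 3 = 3 := h.fix hτ (mem_X_iff.1 (h.TX htT) 3 (by decide) (by decide))
  have t4 : τ 4 = 4 := h.fix hτ (mem_X_iff.1 (h.TX htT) 4 (by decide) (by decide))
  have cases5 : ∀ a : Fin 5, a = 0 ∨ a = 1 ∨ a = 2 ∨ a = 3 ∨ a = 4 := by decide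
  have hval : ∀ a : Fin 5, a ≠ 0 → a ≠ 3 → a ≠ 4 → τ a = 1 ∨ τ a = 2 := by
    intro a ha0 ha3 ha4
    rcases cases5 (τ a) with e | e | e | e | e
    · exact absurd (τ.injective (e.trans t0.symm)) ha0
    · exact Or.inl e
    · exact Or.inr e
    · exact absurd (τ.injective (e.trans t3.symm)) ha3
    · exact absurd (τ.injective (e.trans t4.symm)) ha4
  have v1 := hval 1 (by decide) (by decide) (by decide)
  have v2 := hval 2 (by decide) (by decide) (by decide)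
  have n12 : τ 1 ≠ τ 2 := fun e => absurd (τ.injective e) (by decide)
  rcases v1 with e1 | e1
  · exfalso
    have e2 : τ 2 = 2 := by
      rcases v2 with e2 | e2
      · exact absurd (e1.trans e2.symm) n12
      · exact e2
    -- `t` fixes all letters
    have hall : ∀ a, τ a = a := by
      intro a
      rcases cases5 a with e | e | e | e | e <;> rw [e] <;> assumption
    have hfix : ∀ a, z a * (x * g ^ m * x⁻¹) = x * g ^ m * x⁻¹ * z a := fun a => hτ.comm_of (hall a)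
    obtain ⟨μ, hμ⟩ := h.ind_of hxL
    have h5 : z 1 * g ^ m = g ^ m * z 1 := by
      have h6 := hfix (μ 1)
      rw [← hμ.eq 1] at h6
      calc z 1 * g ^ m = x⁻¹ * (x * z 1 * x⁻¹ * (x * g ^ m * x⁻¹)) * x := by group
        _ = x⁻¹ * (x * g ^ m * x⁻¹ * (x * z 1 * x⁻¹)) * x := by rw [h6]
        _ = g ^ m * z 1 := by group
    have h7 := h.fix hgm h5
    exact absurd h7 (by decide)
  · have e2 : τ 2 = 1 := by
      rcases v2 with e2 | e2
      · exact e2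
      · exact absurd (e1.trans e2.symm) n12
    exact ⟨_, htT, τ, hτ, t0, t3, t4, e1, e2⟩

/-- an element of `R` over the three-cycle -/
theorem Fr5.exists_cycle {R : Subgroup G} (hTR : T ≤ R) (hRL : R ≤ L ⊓ centralizer {z 0, z 4})
    (hRX : ¬ R ≤ X z 1 2) : ∃ r ∈ R, ∃ σ, Ind L z r σ ∧ σ 0 = 0 ∧ σ 4 = 4 ∧ σ 1 = 2 ∧ σ 2 = 3 ∧ σ 3 = 1 := by
  obtain ⟨t, ht, τ, hτ, t0, t3, t4, t1, t2⟩ := h.exists_t
  have htR := hTR ht
  rw [SetLike.not_le_iff_exists] at hRX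
  obtain ⟨ρ, hρR, hρX⟩ := hRX
  obtain ⟨σ, hσ, s0, s4⟩ := h.ind_cl (hRL hρR)
  have s3 : σ 3 ≠ 3 := fun e => hρX (mem_X12 h (hσ.comm_of s0) (hσ.comm_of e) (hσ.comm_of s4))
  have hne : ∀ a b : Fin 5, a ≠ b → σ a ≠ σ b := fun a b hab e => hab (σ.injective e)
  have cases5 : ∀ a : Fin 5, a = 0 ∨ a = 1 ∨ a = 2 ∨ a = 3 ∨ a = 4 := by decide
  have hval : ∀ a : Fin 5, a ≠ 0 → a ≠ 4 → σ a = 1 ∨ σ a = 2 ∨ σ a = 3 := by
    intro a ha0 ha4
    rcases cases5 (σ a) with e | e | e | e | e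
    · exact absurd (σ.injective (e.trans s0.symm)) ha0
    · exact Or.inl e
    · exact Or.inr (Or.inl e)
    · exact Or.inr (Or.inr e)
    · exact absurd (σ.injective (e.trans s4.symm)) ha4
  have v1 := hval 1 (by decide) (by decide)
  have v2 := hval 2 (by decide) (by decide)
  have v3 := hval 3 (by decide) (by decide)
  have n12 := hne 1 2 (by decide)
  have n13 := hne 1 3 (by decide)
  have n23 := hne 2 3 (by decide)
  rcases v3 with e3 | e3 | e3
  · -- `σ 3 = 1`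
    rcases v1 with e1 | e1 | e1
    · exact absurd (e1.trans e3.symm) n13
    · have e2 : σ 2 = 3 := by
        rcases v2 with e2 | e2 | e2
        · exact absurd (e2.trans e3.symm) n23
        · exact absurd (e1.trans e2.symm) n12
        · exact e2
      exact ⟨ρ, hρR, σ, hσ, s0, s4, e1, e2, e3⟩
    · have e2 : σ 2 = 2 := by
        rcases v2 with e2 | e2 | e2
        · exact absurd (e2.trans e3.symm) n23
        · exact e2
        · exact absurd (e1.trans e2.symm) n12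
      refine ⟨ρ * t, mul_mem hρR htR, σ * τ, hσ.mul hτ, ?_, ?_, ?_, ?_, ?_⟩ <;>
        rw [Equiv.Perm.mul_apply] <;> simp only [t0, t1, t2, t3, t4, s0, s4, e1, e2, e3]
  · -- `σ 3 = 2`
    rcases v1 with e1 | e1 | e1
    · have e2 : σ 2 = 3 := by
        rcases v2 with e2 | e2 | e2
        · exact absurd (e1.trans e2.symm) n12
        · exact absurd (e2.trans e3.symm) n23
        · exact e2
      refine ⟨t * ρ, mul_mem htR hρR, τ * σ, hτ.mul hσ, ?_, ?_, ?_, ?_, ?_⟩ <;>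
        rw [Equiv.Perm.mul_apply] <;> simp only [t0, t1, t2, t3, t4, s0, s4, e1, e2, e3]
    · exact absurd (e1.trans e3.symm) n13
    · have e2 : σ 2 = 1 := by
        rcases v2 with e2 | e2 | e2
        · exact e2
        · exact absurd (e2.trans e3.symm) n23
        · exact absurd (e1.trans e2.symm) n12
      refine ⟨ρ * ρ, mul_mem hρR hρR, σ * σ, hσ.mul hσ, ?_, ?_, ?_, ?_, ?_⟩ <;>
        rw [Equiv.Perm.mul_apply] <;> simp only [s0, s4, e1, e2, e3]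
  · exact absurd e3 s3

/-- `⨆ W_a = W_0 W_4` -/
theorem Fr5.iSup_W_le (hL : Lev L z) : ⨆ a, W L z a ≤ W L z 0 ⊔ W L z 4 := by
  refine iSup_le fun a => ?_
  by_cases h0 : a = 0
  · rw [h0]
    exact le_sup_left
  by_cases h4 : a = 4
  · rw [h4]
    exact le_sup_right
  exact h.W_le_W' hL h0 h4 (by decide)

theorem Fr5.Wa_le_Y04 (a : Fin 5) : W L z a ≤ Y L z 0 4 :=
  ((h.Wa_le a).trans (ChoiceSit.o2_le _)).trans ((h.C_le_X 1 2).trans h.X_le_Y04)

/-- **(P1)**, with the conclusion of `Fr5.lever` as hypothesis -/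
theorem Fr5.exists_three_of (hLev : ∃ F : Subgroup G, F ≤ o2 (X z 1 2) ∧
      ¬ F ≤ centralizer (N L z 0 4 : Set G) ∧ ∀ e ∈ W L z 0, ∀ f ∈ F, ⁅e, f⁆ ∈ N L z 0 4)
    (hW : ⨆ a, W L z a ≤ W L z 0 ⊔ W L z 4) :
    ∃ r σ, Ind L z r σ ∧ σ 0 = 0 ∧ σ 4 = 4 ∧ σ 1 = 2 ∧ σ 2 = 3 ∧ σ 3 = 1 ∧
      ∀ v ∈ (⨆ a, W L z a), ⁅v, r⁆ ∈ N L z 0 4 := by
  obtain ⟨F, hFO, hFm, hF⟩ := hLev
  have hFX : F ≤ X z 1 2 := hFO.trans (ChoiceSit.o2_le _)
  have hFY : F ≤ Y L z 0 4 := hFX.trans h.X_le_Y04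
  have hYW0 : Y L z 0 4 ≤ normalizer (W L z 0 : Set G) := (Y_le_M_left 0 4).trans (M_norm_W 0)
  have hYN : Y L z 0 4 ≤ normalizer (N L z 0 4 : Set G) := Y_norm_N 0 4
  have c1 := three_comm_nc hYW0 hYN hFY hF
  -- `s` over `(0 4)`
  obtain ⟨s, hs⟩ := h.ind (Equiv.swap 0 4)
  have s0 : (Equiv.swap (0 : Fin 5) 4) 0 = 4 := by decide
  have s4 : (Equiv.swap (0 : Fin 5) 4) 4 = 0 := by decide
  have s1 : (Equiv.swap (0 : Fin 5) 4) 1 = 1 := by decide
  have s2 : (Equiv.swap (0 : Fin 5) 4) 2 = 2 := by decide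
  have eY : cj s (Y L z 0 4) = Y L z 0 4 := by rw [hs.Y_eq, s0, s4, Y_comm]
  have eN : cj s (N L z 0 4) = N L z 0 4 := by rw [hs.N_eq, s0, s4, three_N_comm]
  have eX : cj s (X z 1 2) = X z 1 2 := by rw [hs.X_eq, s1, s2]
  have eW : cj s (W L z 0) = W L z 4 := by rw [hs.W_eq, s0]
  have hFX' : cj s F ≤ X z 1 2 := eX ▸ cj_mono s hFX
  have hFY' : cj s F ≤ Y L z 0 4 := hFX'.trans h.X_le_Y04
  have hFm' : ¬ cj s F ≤ centralizer (N L z 0 4 : Set G) := by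
    intro hc
    rw [← eN, ← cj_centralizer] at hc
    have h1 := cj_mono s⁻¹ hc
    rw [cj_inv_cj, cj_inv_cj] at h1
    exact hFm h1
  have hYW4 : Y L z 0 4 ≤ normalizer (W L z 4 : Set G) := (Y_le_M_right 0 4).trans (M_norm_W 4)
  have hF' : ∀ e ∈ W L z 4, ∀ f ∈ cj s F, ⁅e, f⁆ ∈ N L z 0 4 := by
    rintro e he _ ⟨f, hf, rfl⟩
    rw [← eW] at he
    obtain ⟨e, he, rfl⟩ := he
    rw [← eN]
    exact ⟨_, hF e he f hf, map_commutatorElement _ _ _⟩
  have c2 := three_comm_nc hYW4 hYN hFY' hF'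
  -- the minimal `R`
  obtain ⟨R, ⟨hTR, hRL, hRX⟩, hmin⟩ := Set.Finite.exists_minimal
    (s := {R : Subgroup G | T ≤ R ∧ R ≤ L ⊓ centralizer {z 0, z 4} ∧ ¬ R ≤ X z 1 2}) (Set.toFinite _)
    ⟨L ⊓ centralizer {z 0, z 4}, h.T_le, le_rfl, by
      obtain ⟨τ, t0, t4, t3⟩ := perm_three (a := 0) (b := 4) (c := 3) (a' := 0) (b' := 4) (c' := 1) (by decide)
        (by decide) (by decide) (by decide) (by decide) (by decide)
      obtain ⟨y, hy⟩ := h.ind τ
      intro hc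
      have h1 := hc (hy.mem_cl t0 t4)
      have h2 := h.fix hy (mem_X_iff.1 h1 3 (by decide) (by decide))
      rw [t3] at h2
      exact absurd h2 (by decide)⟩
  have hmin' : ∀ R' : Subgroup G, T ≤ R' → R' ≤ R → ¬ R' ≤ X z 1 2 → R ≤ R' :=
    fun R' h1 h2 h3 => hmin ⟨h1, h2.trans hRL, h3⟩ h2
  obtain ⟨x, hxR, σ, hσ, e0, e4, e1, e2, e3⟩ := h.exists_cycle hTR hRL hRX
  obtain ⟨n1, hn1⟩ := h.exists_pow (nc_le hFY Subgroup.le_normalizer) (nc_norm _ _) (le_nc _ _) hFX hFm hTR hRL hRX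
    hmin' hxR
  obtain ⟨n2, hn2⟩ := h.exists_pow (nc_le hFY' Subgroup.le_normalizer) (nc_norm _ _) (le_nc _ _) hFX' hFm' hTR hRL
    hRX hmin' hxR
  have hdvd : ∀ n m : ℕ, n ≤ m → ∀ K : Subgroup G, x ^ 2 ^ n ∈ K → x ^ 4 ^ m ∈ K := by
    intro n m hnm K hK
    have h4 : (4 : ℕ) ^ m = 2 ^ n * 2 ^ (2 * m - n) := by
      rw [← pow_add, show (4 : ℕ) = 2 ^ 2 from rfl, ← pow_mul]
      congr 1
      omega
    rw [h4, pow_mul]
    exact pow_mem hK _
  have k1 := hdvd n1 (n1 + n2) (Nat.le_add_right _ _) _ hn1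
  have k2 := hdvd n2 (n1 + n2) (Nat.le_add_left _ _) _ hn2
  refine ⟨x ^ 4 ^ (n1 + n2), σ, ?_, e0, e4, e1, e2, e3, ?_⟩
  · have := hσ.pow (4 ^ (n1 + n2))
    rwa [perm_three_pow e0 e4 e1 e2 e3] at this
  · intro v hv
    have hv' := hW hv
    have hn : W L z 0 ≤ normalizer (W L z 4 : Set G) := (h.Wa_le_Y04 0).trans hYW4
    obtain ⟨a, ha, hb⟩ := three_mem_sup hn hv'
    have e : v = a * (a⁻¹ * v) := by group
    rw [e]
    have e5 : ∀ a b r : G, ⁅a * b, r⁆ = a * ⁅b, r⁆ * a⁻¹ * ⁅a, r⁆ := by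
      intro a b r
      simp only [commutatorElement_def]
      group
    rw [e5]
    refine mul_mem ((mem_normalizer_iff.1 (hYN (h.Wa_le_Y04 0 ha)) _).1 (c2 _ hb _ k2)) (c1 _ ha _ k1)

/-- **(P1)** -/
theorem Fr5.exists_three (hL : Lev L z) : Three L z :=
  h.exists_three_of hL (h.iSup_W_le hL)

/-- (P1) from `J_03 ≠ J_04` -/
theorem Fr5.exists_three_J (hJ : jj (o2 (Y L z 0 3)) ≠ jj (o2 (Y L z 0 4))) : Three L z :=
  h.exists_three (h.lev_of_J hJ)

end main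

end Cfsg.Agent.Omega.NO3S.MFive

end

section


/-!
# LightL (E), `n = 5`: FAIL, `EE ≠ ∅` (helper736 #25382 over M5 and helper155's `exists_three_of`)

* `Fr5.three_of_lev` : `Lev L z → Three L z`;
* `FailHyp.local_lev`, `FailHyp.local_off` : `⟨L, D⟩` normalises a nontrivial 2-group if `Lev L z` holds, resp. if some
  elementary abelian `A ≤ O_2(X_12)` offends on `W_0`.
-/

set_option autoImplicit false
set_option linter.unusedSectionVars false
set_option linter.unusedVariables false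

namespace Cfsg.Agent.Omega.NO3S.MFive

open Subgroup Cfsg Cfsg.Agent.ZN Cfsg.Agent.ZN.ChoiceBase
open Cfsg.Agent.ZN.ChoiceSit
open Cfsg.Agent.Omega.NO3S.EThree

universe u

variable {G : Type u} [Group G] [Finite G] {L T B : Subgroup G} {z : Fin 5 → G}

theorem Fr5.three_of_lev (h : Fr5 L T z) (hL : Lev L z) : Three L z := h.exists_three hL

/-- **FAIL, `Lev`.** -/
theorem FailHyp.local_lev (f : FailHyp L T B z) (hL : Lev L z) : ∃ R : Subgroup G, R ≠ ⊥ ∧ IsPGroup 2 R ∧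
    L ≤ normalizer (R : Set G) ∧ DD z ≤ normalizer (R : Set G) :=
  f.local_one hL (f.fr.three_of_lev hL)

/-- **FAIL, `EE ≠ ∅`.** -/
theorem FailHyp.local_off (f : FailHyp L T B z)
    (hE : ∃ A ≤ o2 (X z 1 2), IsElementaryAbelian 2 A ∧ Offd (W L z 0) A) : ∃ R : Subgroup G, R ≠ ⊥ ∧
    IsPGroup 2 R ∧ L ≤ normalizer (R : Set G) ∧ DD z ≤ normalizer (R : Set G) := by
  obtain ⟨A, hA, hAe, hoff⟩ := hE
  exact f.local_lev (f.fr.lev_of_offd hA hAe hoff)

end Cfsg.Agent.Omega.NO3S.MFive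

end

section


/-!
# `Fr5` when `X z 1 2 ≤ L` (helper224)

`Fr5` (helper693) holds also in the world `X_12 ≤ L` (it contains the V4 world): then `M L z 0 ≤ L`, `W L z 0 = V z`,
so `wab`, `cw` are trivial. With `Pre.fr5` (helper829) this gives `Fr5` in every case.
-/

set_option autoImplicit false
set_option linter.unusedSectionVars false

namespace Cfsg.Agent.Omega.NO3S.MFive.Le

open Subgroup Cfsg Cfsg.Agent.ZN Cfsg.Agent.ZN.ChoiceBase
open Cfsg.Agent.ZN.ChoiceSit (Syl)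
open Cfsg.Agent.Omega.EK3.Rank (NoOn)

universe u

variable {G : Type u} [Group G] {L T : Subgroup G} {z : Fin 5 → G}

theorem mem_X {i j : Fin 5} {x : G} : x ∈ X z i j ↔ ∀ k, k ≠ i → k ≠ j → x * z k = z k * x := by
  rw [X, mem_centralizer_iff]
  constructor
  · intro h k h1 h2
    exact (h (z k) ⟨k, h1, h2, rfl⟩).symm
  · rintro h _ ⟨k, h1, h2, rfl⟩
    exact (h k h1 h2).symm

/-- all `X_kl` lie in `L` -/
theorem X_le (full : ∀ σ : Equiv.Perm (Fin 5), ∃ g ∈ L, ∀ a, g * z a * g⁻¹ = z (σ a)) (hX : X z 1 2 ≤ L)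
    {k l : Fin 5} (hkl : k ≠ l) : X z k l ≤ L := by
  intro x hx
  obtain ⟨σ, h1, h2⟩ := perm_two (a := 1) (b := 2) (a' := k) (b' := l) (by decide) hkl
  obtain ⟨g, hg, h3⟩ := full σ
  have h4 : g⁻¹ * x * g ∈ X z 1 2 := by
    refine mem_X.2 fun i hi1 hi2 => ?_
    have e1 : σ i ≠ k := fun e => hi1 (σ.injective (e.trans h1.symm))
    have e2 : σ i ≠ l := fun e => hi2 (σ.injective (e.trans h2.symm))
    have h5 := mem_X.1 hx _ e1 e2
    rw [← h3] at h5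
    calc g⁻¹ * x * g * z i = g⁻¹ * (x * (g * z i * g⁻¹)) * g := by group
      _ = z i * (g⁻¹ * x * g) := by rw [h5]; group
  have h5 := mul_mem (mul_mem hg (hX h4)) (inv_mem hg)
  have e : g * (g⁻¹ * x * g) * g⁻¹ = x := by group
  rwa [e] at h5

theorem M_le_L (full : ∀ σ : Equiv.Perm (Fin 5), ∃ g ∈ L, ∀ a, g * z a * g⁻¹ = z (σ a)) (hX : X z 1 2 ≤ L)
    (a : Fin 5) : M L z a ≤ L :=
  sup_le inf_le_left (iSup_le fun _ => iSup_le fun _ => iSup_le fun h => X_le full hX h.1)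

theorem L_norm (act : ∀ g ∈ L, ∃ σ : Equiv.Perm (Fin 5), ∀ a, g * z a * g⁻¹ = z (σ a)) :
    L ≤ normalizer (V z : Set G) := by
  have key : ∀ g ∈ L, ∀ v ∈ V z, g * v * g⁻¹ ∈ V z := by
    intro g hg v hv
    obtain ⟨σ, hσ⟩ := act g hg
    rw [V] at hv
    induction hv using closure_induction with
    | mem x hx =>
      obtain ⟨i, rfl⟩ := hx
      rw [hσ]
      exact subset_closure ⟨_, rfl⟩
    | one => rw [mul_one, mul_inv_cancel]; exact one_mem _
    | mul x y _ _ ihx ihy =>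
      have e : g * (x * y) * g⁻¹ = (g * x * g⁻¹) * (g * y * g⁻¹) := by group
      rw [e]
      exact mul_mem ihx ihy
    | inv x _ ih =>
      have e : g * x⁻¹ * g⁻¹ = (g * x * g⁻¹)⁻¹ := by group
      rw [e]
      exact inv_mem ih
  intro g hg
  rw [mem_normalizer_iff]
  intro v
  refine ⟨key g hg v, fun hv => ?_⟩
  have h1 := key g⁻¹ (inv_mem hg) _ hv
  have e : g⁻¹ * (g * v * g⁻¹) * g⁻¹⁻¹ = v := by group
  rwa [e] at h1

theorem W_le (act : ∀ g ∈ L, ∃ σ : Equiv.Perm (Fin 5), ∀ a, g * z a * g⁻¹ = z (σ a))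
    (full : ∀ σ : Equiv.Perm (Fin 5), ∃ g ∈ L, ∀ a, g * z a * g⁻¹ = z (σ a)) (hX : X z 1 2 ≤ L) (a : Fin 5) :
    W L z a ≤ V z :=
  nc_le le_rfl ((M_le_L full hX a).trans (L_norm act))

theorem V_comm (comm : ∀ a b, z a * z b = z b * z a) : ∀ x ∈ V z, ∀ y ∈ V z, x * y = y * x := by
  intro x hx y hy
  have h1 : V z ≤ centralizer (V z : Set G) := by
    rw [V, centralizer_closure]
    refine (closure_le _).2 ?_
    rintro _ ⟨i, rfl⟩
    refine mem_centralizer_iff.2 ?_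
    rintro _ ⟨j, rfl⟩
    exact comm j i
  exact (mem_centralizer_iff.1 (h1 hx) y hy).symm

theorem V_sq (sq : ∀ a, z a * z a = 1) (comm : ∀ a b, z a * z b = z b * z a) : ∀ x ∈ V z, x * x = 1 := by
  intro x hx
  have hc := V_comm comm
  rw [V] at hx
  induction hx using closure_induction with
  | mem x hx => obtain ⟨i, rfl⟩ := hx; exact sq i
  | one => group
  | mul x y hx hy ihx ihy =>
    have h1 := hc y hy x hx
    calc x * y * (x * y) = x * (y * x) * y := by group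
      _ = (x * x) * (y * y) := by rw [h1]; group
      _ = 1 := by rw [ihx, ihy, one_mul]
  | inv x _ ih =>
    rw [← mul_inv_rev, ih, inv_one]

/-- `C_V(t) ≤ ⟨z_0, z_3, z_4⟩` for `t` over `(12)` -/
theorem cent_t (sq : ∀ a, z a * z a = 1) (comm : ∀ a b, z a * z b = z b * z a)
    (prod : z 0 = z 1 * z 2 * z 3 * z 4) (inj : Function.Injective z) {t : G} (htX : t ∈ X z 1 2)
    (ht : t * z 1 * t⁻¹ = z 2) {v : G} (hv : v ∈ V z) (htv : t * v = v * t) : v ∈ Zc z 1 2 := by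
  have hZV : ∀ w ∈ Zc z 1 2, w ∈ V z := by
    intro w hw
    refine (closure_mono ?_ : Zc z 1 2 ≤ V z) hw
    rintro _ ⟨c, -, -, rfl⟩
    exact ⟨c, rfl⟩
  have hc := V_comm comm
  have hz : ∀ a, z a ∈ V z := fun a => subset_closure ⟨a, rfl⟩
  have hZ : ∀ {c : Fin 5}, c ≠ 1 → c ≠ 2 → z c ∈ Zc z 1 2 := fun h1 h2 => subset_closure ⟨_, h1, h2, rfl⟩
  have h12 : z 1 * z 2 ∈ Zc z 1 2 := by
    have e : z 1 * z 2 = z 0 * z 4 * z 3 := by
      rw [prod]
      calc z 1 * z 2 = z 1 * z 2 * 1 * 1 := by group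
        _ = z 1 * z 2 * (z 3 * z 3) * (z 4 * z 4) := by rw [sq, sq]
        _ = z 1 * z 2 * z 3 * (z 3 * z 4) * z 4 := by group
        _ = z 1 * z 2 * z 3 * (z 4 * z 3) * z 4 := by rw [comm 3 4]
        _ = z 1 * z 2 * z 3 * z 4 * (z 3 * z 4) := by group
        _ = z 1 * z 2 * z 3 * z 4 * (z 4 * z 3) := by rw [comm 3 4]
        _ = z 1 * z 2 * z 3 * z 4 * z 4 * z 3 := by group
    rw [e]
    exact mul_mem (mul_mem (hZ (by decide) (by decide)) (hZ (by decide) (by decide))) (hZ (by decide) (by decide))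
  have key : ∀ v ∈ V z, v ∈ Zc z 1 2 ∨ z 1 * v ∈ Zc z 1 2 := by
    intro v hv
    rw [V] at hv
    induction hv using closure_induction with
    | mem x hx =>
      obtain ⟨i, rfl⟩ := hx
      by_cases h1 : i = 1
      · right; rw [h1, sq]; exact one_mem _
      by_cases h2 : i = 2
      · right; rw [h2]; exact h12
      · left; exact hZ h1 h2
    | one => left; exact one_mem _
    | mul x y hx hy ihx ihy =>
      have hx' : x ∈ V z := hx
      rcases ihx with k1 | k1 <;> rcases ihy with k2 | k2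
      · left; exact mul_mem k1 k2
      · right
        have e : z 1 * (x * y) = x * (z 1 * y) := by
          rw [← mul_assoc, hc _ (hz 1) _ hx', mul_assoc]
        rw [e]; exact mul_mem k1 k2
      · right; rw [← mul_assoc]; exact mul_mem k1 k2
      · left
        have e : x * y = z 1 * x * (z 1 * y) := by
          calc x * y = x * 1 * y := by group
            _ = x * (z 1 * z 1) * y := by rw [sq]
            _ = (x * z 1) * (z 1 * y) := by group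
            _ = z 1 * x * (z 1 * y) := by rw [hc _ (hz 1) _ hx']
        rw [e]; exact mul_mem k1 k2
    | inv x hx ih =>
      have hx' : x ∈ V z := hx
      have e : x⁻¹ = x := inv_eq_of_mul_eq_one_left (V_sq sq comm x hx')
      rwa [e]
  rcases key v hv with h1 | h1
  · exact h1
  · exfalso
    have hw : t * (z 1 * v) = z 1 * v * t := by
      have h2 : ∀ w ∈ Zc z 1 2, t * w = w * t := by
        intro w hw
        have h3 : Zc z 1 2 ≤ centralizer {t} := by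
          refine (closure_le _).2 ?_
          rintro _ ⟨c, hc1, hc2, rfl⟩
          exact mem_centralizer_singleton_iff.2 ((mem_X.1 htX c hc1 hc2).symm)
        exact (mem_centralizer_singleton_iff.1 (h3 hw)).symm
      exact h2 _ h1
    have h3 : t * z 1 * t⁻¹ = z 1 := by
      have e : z 1 = z 1 * v * v⁻¹ := by group
      calc t * z 1 * t⁻¹ = (t * (z 1 * v)) * (t * v)⁻¹ := by group
        _ = (z 1 * v * t) * (v * t)⁻¹ := by rw [hw, htv]
        _ = z 1 := by group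
    rw [ht] at h3
    exact absurd (inj h3) (by decide)

/-- **`Fr5` in the world `X z 1 2 ≤ L`**: no `wab`, no `cw`. -/
theorem fr5 (sq : ∀ a, z a * z a = 1) (comm : ∀ a b, z a * z b = z b * z a) (prod : z 0 = z 1 * z 2 * z 3 * z 4)
    (inj : Function.Injective z) (act : ∀ g ∈ L, ∃ σ : Equiv.Perm (Fin 5), ∀ a, g * z a * g⁻¹ = z (σ a))
    (full : ∀ σ : Equiv.Perm (Fin 5), ∃ g ∈ L, ∀ a, g * z a * g⁻¹ = z (σ a))
    (cv : centralizer (Set.range z) ≤ L) (TL : T ≤ L) (TX : T ≤ X z 1 2) (syl : Syl T (Y L z 0 4))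
    (mv : ∃ t ∈ T, t * z 1 * t⁻¹ = z 2) (no : NoOn (o2 (X z 1 2)) (N L z 0 4)) (hX : X z 1 2 ≤ L) :
    Fr5 L T z where
  sq := sq
  comm := comm
  prod := prod
  inj := inj
  act := act
  full := full
  cv := cv
  TL := TL
  TX := TX
  syl := syl
  wab := by
    have h0 := W_le act full hX 0
    exact ⟨⟨⟨fun x y => Subtype.ext (V_comm comm x (h0 x.2) y (h0 y.2))⟩⟩, fun x hx => by
      rw [pow_two]; exact V_sq sq comm x (h0 hx)⟩
  cw := by
    intro v hv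
    obtain ⟨h1, h2⟩ := hv
    obtain ⟨t, ht, h3⟩ := mv
    have h4 := cent_t sq comm prod inj (TX ht) h3 (W_le act full hX 0 h1) (mem_centralizer_iff.1 h2 t ht)
    rw [mem_centralizer_iff]
    intro x hx
    have h5 : Zc z 1 2 ≤ centralizer {x} := by
      refine (closure_le _).2 ?_
      rintro _ ⟨c, hc1, hc2, rfl⟩
      exact mem_centralizer_singleton_iff.2 ((mem_X.1 hx c hc1 hc2).symm)
    exact (mem_centralizer_singleton_iff.1 (h5 h4)).symm
  no := no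

end Cfsg.Agent.Omega.NO3S.MFive.Le

end

section


/-!
# LightL (E), `n = 5`, CASE II + `J(O_2(D)) ≤ C(V)` + FAIL (helper237 #25850, no rank comparison)

`D = C(z_0 z_4, z_1 z_2)`, `O = O_2(D)`. If no elementary abelian subgroup of `O_2(X_12)` offends `W_0` (`¬ Lev L z`),
then `J(O)` centralises `W_3 ≤ O`, so `AA(Q_12)` centralises `W_0 ≥ N_04`; FAIL: `J(Q_12) = J(Q_04)`.

* `FailHyp.cent_W3` : `A ∈ AA(O)` centralises `W_3`;
* `FailHyp.AA_sub` : `AA(Q_12) ⊆ AA(O)`;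
* `FailHyp.local_two` : `⟨L, D⟩` normalises `J(Q_12) = J(Q_04) ≠ 1`;
* **`FailHyp.local_all`** : with `FailOne` (CASE I, helper736 #25382): FAIL is dead.
-/

set_option autoImplicit false
set_option linter.unusedSectionVars false
set_option linter.unusedVariables false

namespace Cfsg.Agent.Omega.NO3S.MFive

open Subgroup Cfsg Cfsg.Agent.ZN Cfsg.Agent.ZN.ChoiceBase
open Cfsg.Agent.ZN.ChoiceSit
open Cfsg.Agent.Omega.NO3S.EThree
open Cfsg.Agent.Omega.NO3S.EThree.ExactA (eab_mono eab_sup eab_iff swp)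
open Cfsg.Agent.Omega.EK3.Rank (NoOn le_of_mem)
open Cfsg.Agent.Omega.EK3.Lever (relIndex_cj)
open Cfsg.Agent.Omega.ESym.CoreS (mem_norm_of_le jj_ne_bot)
open Cfsg.Agent.Omega.NoFF.Basic (comm_symm)
open scoped commutatorElement

universe u

variable {G : Type u} [Group G] [Finite G] {L T B : Subgroup G} {z : Fin 5 → G}

section two

variable (f : FailHyp L T B z) (hL : ¬ Lev L z) (w3 : W L z 3 ≤ o2 (DD z))
include f

/-- `AA(Q_04) ⊆ AA(O)`, by FAIL -/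
theorem FailHyp.AA_sub04 {A : Subgroup G} (hA : A ∈ AA (o2 (CC z 0 4))) : A ∈ AA (o2 (DD z)) := by
  obtain ⟨A₀, hA₀⟩ := AA_nonempty (o2 (DD z))
  have e04 : IsElementaryAbelian 2 (N L z 0 4 : Subgroup G) := f.fr.eab04
  obtain ⟨-, -, hA1⟩ := swp e04 f.N04_le_O hA₀ (f.no04 hA₀)
  have hc : (A₀ ⊓ centralizer (N L z 0 4 : Set G)) ⊔ N L z 0 4 ≤ centralizer (N L z 0 4 : Set G) :=
    sup_le inf_le_right (eab_iff.1 e04).1
  have hQ := f.le_Q hA1.2.1 (f.fail _ hA1 hc)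
  rw [mem_AA_iff] at hA ⊢
  refine ⟨hA.1, hA.2.1.trans f.Q_le_O, ?_⟩
  rw [mm_eq hA1]
  exact (card_le_mm hA1.1 hQ).trans hA.2.2

theorem FailHyp.cj_Q12 {g : G} {σ : Equiv.Perm (Fin 5)} (hg : Ind L z g σ) (h0 : σ 0 = 1) (h1 : σ 1 = 0)
    (h4 : σ 4 = 2) (h2 : σ 2 = 4) : cj g (o2 (CC z 1 2)) = o2 (CC z 0 4) := by
  rw [← o2_cj, hg.CC_eq, h1, h2]

theorem FailHyp.AA_sub12 {A : Subgroup G} (hA : A ∈ AA (o2 (CC z 1 2))) : A ∈ AA (o2 (DD z)) := by
  obtain ⟨g, σ, hg, h0, h1, h4, h2, h3⟩ := f.sw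
  have h5 := cj_mem_AA g hA
  rw [f.cj_Q12 hg h0 h1 h4 h2] at h5
  have h6 := f.AA_sub04 h5
  have e : cj g⁻¹ (DD z) = DD z := by
    have := congrArg (cj g⁻¹) (f.DD_cj hg h0 h1 h4 h2)
    rw [cj_inv_cj] at this
    exact this.symm
  have h7 := f.AA_cj e h6
  rwa [cj_inv_cj] at h7

include hL w3

/-- `A ∈ AA(O)` centralises `W_3` -/
theorem FailHyp.cent_W3 {A : Subgroup G} (hA : A ∈ AA (o2 (DD z))) : A ≤ centralizer (W L z 3 : Set G) := by
  by_contra hm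
  -- `g ∈ L` over `(0 3)`
  obtain ⟨g, hg⟩ := f.fr.ind (Equiv.swap 0 3)
  have eW : cj g (W L z 3) = W L z 0 := by
    rw [hg.W_eq]
    congr 1
  have eX : cj g (X z 1 2) = X z 1 2 := by
    rw [hg.X_eq]
    congr 1
  have hAX := f.X12_o2 hA.2.1 (f.jV A hA)
  have hle := le_of_mem (f.fr.Wa_ab 3) w3 hA
  refine hL (f.fr.lev_of_offd (A := cj g A) ?_ (isElementaryAbelian_cj g hA.1) ⟨?_, ?_, ?_⟩)
  · have := cj_mono g hAX
    rwa [← o2_cj, eX] at this
  · have h1 : cj g A ≤ X z 1 2 := by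
      have := cj_mono g (hAX.trans (ChoiceSit.o2_le _))
      rwa [eX] at this
    exact h1.trans (f.fr.X_le_M.trans (M_norm_W 0))
  · intro hc
    apply hm
    rw [← eW, ← cj_centralizer] at hc
    have h1 := cj_mono g⁻¹ hc
    rwa [cj_inv_cj, cj_inv_cj] at h1
  · rw [← eW, ← cj_centralizer, ← cj_centralizer, relIndex_cj, relIndex_cj]
    exact hle

/-- `A ∈ AA(Q_12)` lies in `Q_04` -/
theorem FailHyp.le_Q04_of {A : Subgroup G} (hA : A ∈ AA (o2 (CC z 1 2))) : A ≤ o2 (CC z 0 4) := by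
  obtain ⟨g, hg⟩ := f.fr.ind (Equiv.swap 0 3)
  have eQ : cj g (o2 (CC z 1 2)) = o2 (CC z 1 2) := by
    rw [← o2_cj, hg.CC_eq]
    congr 1
  have eW : cj g (W L z 3) = W L z 0 := by
    rw [hg.W_eq]
    congr 1
  have eQ' : cj g⁻¹ (o2 (CC z 1 2)) = o2 (CC z 1 2) := by
    have := congrArg (cj g⁻¹) eQ
    rw [cj_inv_cj] at this
    exact this.symm
  have h1 := cj_mem_AA g⁻¹ hA
  rw [eQ'] at h1
  have h2 := cj_mono g (f.cent_W3 hL w3 (f.AA_sub12 h1))
  rw [cj_cj_inv, cj_centralizer, eW] at h2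
  exact f.le_Q (f.AA_sub12 hA).2.1 (f.fail A (f.AA_sub12 hA) (h2.trans (centralizer_le (N_le_W_left 0 4))))

/-- `J(Q_12) = J(Q_04)` -/
theorem FailHyp.jj_eq12 : jj (o2 (CC z 1 2)) = jj (o2 (CC z 0 4)) := by
  have h1 : jj (o2 (CC z 1 2)) ≤ jj (o2 (CC z 0 4)) := by
    rw [ChoiceBase.jj_eq]
    refine sSup_le fun A hA => le_jj ?_
    rw [mem_AA_iff]
    refine ⟨hA.1, f.le_Q04_of hL w3 hA, ?_⟩
    rw [← mm_eq (f.AA_sub12 hA)]
    exact mm_mono f.Q_le_O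
  obtain ⟨g, σ, hg, h0, h1', h4, h2, h3⟩ := f.sw
  refine Subgroup.eq_of_le_of_card_ge h1 ?_
  rw [← f.cj_Q12 hg h0 h1' h4 h2, jj_cj, card_cj]

/-- **CASE II + FAIL**: `⟨L, D⟩` normalises a nontrivial 2-group. -/
theorem FailHyp.local_two : ∃ R : Subgroup G, R ≠ ⊥ ∧ IsPGroup 2 R ∧ L ≤ normalizer (R : Set G) ∧
    DD z ≤ normalizer (R : Set G) := by
  have hn04 : CC z 0 4 ≤ normalizer (jj (o2 (CC z 0 4)) : Set G) :=
    (ChoiceSit.le_normalizer_o2 _).trans (ESym.CoreS.jj_norm _)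
  have hn12 : CC z 1 2 ≤ normalizer (jj (o2 (CC z 0 4)) : Set G) := by
    rw [← f.jj_eq12 hL w3]
    exact (ChoiceSit.le_normalizer_o2 _).trans (ESym.CoreS.jj_norm _)
  have hnorm : ∀ (g : G), cj g (CC z 0 4) = CC z 0 4 → g ∈ normalizer (jj (o2 (CC z 0 4)) : Set G) := by
    intro g hg
    rw [mem_normalizer_iff_cj, ← jj_cj, ← o2_cj, hg]
  have hnorm' : ∀ (g : G), cj g (CC z 1 2) = CC z 1 2 → g ∈ normalizer (jj (o2 (CC z 0 4)) : Set G) := by
    intro g hg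
    rw [← f.jj_eq12 hL w3, mem_normalizer_iff_cj, ← jj_cj, ← o2_cj, hg]
  have h04 : ∀ g σ, Ind L z g σ → (σ 0 = 0 ∧ σ 4 = 4) ∨ (σ 0 = 4 ∧ σ 4 = 0) →
      g ∈ normalizer (jj (o2 (CC z 0 4)) : Set G) := by
    intro g σ hg hσ
    refine hnorm g ?_
    rw [hg.CC_eq]
    rcases hσ with ⟨h1, h2⟩ | ⟨h1, h2⟩
    · rw [h1, h2]
    · rw [h1, h2, CC_comm f.fr.comm]
  have h12 : ∀ g σ, Ind L z g σ → (σ 1 = 1 ∧ σ 2 = 2) ∨ (σ 1 = 2 ∧ σ 2 = 1) →
      g ∈ normalizer (jj (o2 (CC z 0 4)) : Set G) := by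
    intro g σ hg hσ
    refine hnorm' g ?_
    rw [hg.CC_eq]
    rcases hσ with ⟨h1, h2⟩ | ⟨h1, h2⟩
    · rw [h1, h2]
    · rw [h1, h2, CC_comm f.fr.comm]
  refine ⟨jj (o2 (CC z 0 4)), ?_, (ChoiceSit.isPGroup_o2 _).to_le (ChoiceBase.jj_le _), ?_, ?_⟩
  · refine jj_ne_bot (ChoiceSit.isPGroup_o2 _) ?_
    intro e
    have h1 : N L z 0 4 ≤ o2 (CC z 0 4) := by
      have h2 := f.N_le
      refine h2.trans (sup_le ?_ f.NB_le_Q)
      rw [zpowers_le]
      have h3 : zpowers (z 0 * z 4) ≤ o2 (CC z 0 4) := by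
        refine ChoiceSit.le_o2 ((ChoiceSit.isPGroup_o2 (DD z)).to_le (by
          rw [zpowers_le]
          exact f.z04_mem)) ?_ ?_
        · rw [zpowers_le]
          exact mem_CC_self 0 4
        · refine le_trans ?_ (centralizer_le_normalizer _)
          rw [Subgroup.le_centralizer_iff, zpowers_le, mem_centralizer_iff]
          intro x hx
          exact (mem_centralizer_iff.1 hx _ rfl).symm
      exact h3 (mem_zpowers _)
    rw [e] at h1
    exact f.fr.z_ne 3 (mem_bot.1 (h1 (z_mem_N (by decide) (by decide))))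
  · intro g hg
    obtain ⟨σ, hσ⟩ := f.fr.ind_of hg
    refine perm_gen (P := fun σ => ∀ g, Ind L z g σ → g ∈ normalizer (jj (o2 (CC z 0 4)) : Set G))
      ?_ (fun σ h1 g h2 => h04 g σ h2 h1) (fun σ h1 g h2 => h12 g σ h2 h1) σ g hσ
    intro σ τ h1 h2 g hg
    obtain ⟨g₁, hg₁⟩ := f.fr.ind σ
    have h4 := hg₁.inv.mul hg
    rw [inv_mul_cancel_left] at h4
    have h5 := mul_mem (h1 g₁ hg₁) (h2 _ h4)
    rwa [mul_inv_cancel_left] at h5
  · exact DD_le_left.trans hn04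

end two

/-- **FAIL + `J(O) ≤ C(V)`**: `⟨L, D⟩` normalises a nontrivial 2-group. -/
theorem FailHyp.local_all (f : FailHyp L T B z) (w3 : W L z 3 ≤ o2 (DD z)) : ∃ R : Subgroup G, R ≠ ⊥ ∧
    IsPGroup 2 R ∧ L ≤ normalizer (R : Set G) ∧ DD z ≤ normalizer (R : Set G) := by
  by_cases hL : Lev L z
  · exact f.local_lev hL
  · exact f.local_two hL w3

end Cfsg.Agent.Omega.NO3S.MFive

end

section


/-!
# THEOREM M5: the frame `Fr5` in another order of the letters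

* `Rx.fr5_reindex` : `Fr5 L T z → ∃ g ∈ L` inducing `σ`, `Fr5 L (cj g T) (z ∘ σ)`.
-/

set_option autoImplicit false
set_option linter.unusedSectionVars false

namespace Cfsg.Agent.Omega.NO3S.MFive.Rx

open Subgroup Cfsg Cfsg.Agent.ZN Cfsg.Agent.ZN.ChoiceBase
open Cfsg.Agent.ZN.ChoiceSit
open Cfsg.Agent.Omega.EK3.Rank (NoOn)
open Cfsg.Agent.Omega.EK3.Lever (relIndex_cj)
open Cfsg.Agent.Omega.NO3S.EThree.ExactA (eab_mono eab_sup eab_iff)

universe u

variable {G : Type u} [Group G] {L : Subgroup G} {z : Fin 5 → G}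

section comp

variable (σ : Equiv.Perm (Fin 5))

theorem range_comp : Set.range (fun a => z (σ a)) = Set.range z := by
  ext x
  constructor
  · rintro ⟨a, rfl⟩
    exact ⟨σ a, rfl⟩
  · rintro ⟨a, rfl⟩
    exact ⟨σ⁻¹ a, by simp⟩

theorem V_comp : V (fun a => z (σ a)) = V z := by
  rw [V, V, range_comp]

theorem X_comp (i j : Fin 5) : X (fun a => z (σ a)) i j = X z (σ i) (σ j) := by
  rw [X, X]
  congr 1
  ext x
  constructor
  · rintro ⟨k, h1, h2, rfl⟩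
    exact ⟨σ k, fun e => h1 (σ.injective e), fun e => h2 (σ.injective e), rfl⟩
  · rintro ⟨k, h1, h2, rfl⟩
    refine ⟨σ⁻¹ k, ?_, ?_, by simp⟩
    · rintro rfl
      exact h1 (by simp)
    · rintro rfl
      exact h2 (by simp)

theorem Zc_comp (i j : Fin 5) : Zc (fun a => z (σ a)) i j = Zc z (σ i) (σ j) := by
  rw [Zc, Zc]
  congr 1
  ext x
  constructor
  · rintro ⟨k, h1, h2, rfl⟩
    exact ⟨σ k, fun e => h1 (σ.injective e), fun e => h2 (σ.injective e), rfl⟩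
  · rintro ⟨k, h1, h2, rfl⟩
    refine ⟨σ⁻¹ k, ?_, ?_, by simp⟩
    · rintro rfl
      exact h1 (by simp)
    · rintro rfl
      exact h2 (by simp)

theorem Y_comp (a b : Fin 5) : Y L (fun a => z (σ a)) a b = Y L z (σ a) (σ b) := by
  rw [Y, Y]
  refine congrArg (fun R => (L ⊓ centralizer {z (σ a), z (σ b)}) ⊔ R) ?_
  apply le_antisymm
  · refine iSup_le fun k => iSup_le fun l => iSup_le fun hkl => ?_
    rw [X_comp]
    refine le_iSup_of_le (σ k) (le_iSup_of_le (σ l) (le_iSup_of_le ?_ le_rfl))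
    simpa using hkl
  · refine iSup_le fun k => iSup_le fun l => iSup_le fun hkl => ?_
    refine le_iSup_of_le (σ⁻¹ k) (le_iSup_of_le (σ⁻¹ l) (le_iSup_of_le ?_ ?_))
    · refine ⟨fun e => hkl.1 (by simpa using e), ⟨?_, ?_⟩, ?_, ?_⟩
      · rintro rfl
        exact hkl.2.1.1 (by simp)
      · rintro rfl
        exact hkl.2.1.2 (by simp)
      · rintro rfl
        exact hkl.2.2.1 (by simp)
      · rintro rfl
        exact hkl.2.2.2 (by simp)
    · rw [X_comp]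
      simp

theorem M_comp (a : Fin 5) : M L (fun a => z (σ a)) a = M L z (σ a) := by
  rw [M, M]
  refine congrArg (fun R => (L ⊓ centralizer {z (σ a)}) ⊔ R) ?_
  apply le_antisymm
  · refine iSup_le fun k => iSup_le fun l => iSup_le fun hkl => ?_
    rw [X_comp]
    refine le_iSup_of_le (σ k) (le_iSup_of_le (σ l) (le_iSup_of_le ?_ le_rfl))
    simpa using hkl
  · refine iSup_le fun k => iSup_le fun l => iSup_le fun hkl => ?_
    refine le_iSup_of_le (σ⁻¹ k) (le_iSup_of_le (σ⁻¹ l) (le_iSup_of_le ?_ ?_))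
    · refine ⟨fun e => hkl.1 (by simpa using e), ?_, ?_⟩
      · rintro rfl
        exact hkl.2.1 (by simp)
      · rintro rfl
        exact hkl.2.2 (by simp)
    · rw [X_comp]
      simp

theorem N_comp (a b : Fin 5) : N L (fun a => z (σ a)) a b = N L z (σ a) (σ b) := by
  rw [N, N, Y_comp, Zc_comp]

theorem W_comp (a : Fin 5) : W L (fun a => z (σ a)) a = W L z (σ a) := by
  rw [W, W, M_comp, V_comp]

end comp

theorem ind_comp {g : G} {σ τ : Equiv.Perm (Fin 5)} (h : Ind L z g τ) :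
    Ind L (fun a => z (σ a)) g (σ⁻¹ * τ * σ) where
  mem := h.mem
  eq := fun a => by simp [h.eq]

/-- the product of the five involutions in any order -/
theorem prod_perm {z : Fin 5 → G} (prod : z 0 = z 1 * z 2 * z 3 * z 4) {g : G} {σ : Equiv.Perm (Fin 5)} (hg : ∀ a, g * z a * g⁻¹ = z (σ a)) :
    z (σ 0) = z (σ 1) * z (σ 2) * z (σ 3) * z (σ 4) := by
  rw [← hg 0, ← hg 1, ← hg 2, ← hg 3, ← hg 4, prod]
  group

theorem syl_cjR [Finite G] {T X : Subgroup G} (g : G) (h : Syl T X) : Syl (cj g T) (cj g X) := by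
  refine ⟨cj_mono g h.1, isPGroup_cj g h.2.1, fun Q hQ hp hT => ?_⟩
  have h1 := h.2.2 (cj g⁻¹ Q) ?_ (isPGroup_cj _ hp) ?_
  · rw [← h1, cj_cj_inv]
  · have := cj_mono g⁻¹ hQ
    rwa [cj_inv_cj] at this
  · have := cj_mono g⁻¹ hT
    rwa [cj_inv_cj] at this

/-- **the frame in another order of the letters** -/
theorem fr5_reindex [Finite G] {T : Subgroup G} (h : Fr5 L T z) {g : G} {σ : Equiv.Perm (Fin 5)}
    (hg : Ind L z g σ) : Fr5 L (cj g T) (fun a => z (σ a)) where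
  sq := fun a => h.sq _
  comm := fun a b => h.comm _ _
  prod := prod_perm h.prod hg.eq
  inj := fun a b hab => σ.injective (h.inj hab)
  act := fun x hx => by
    obtain ⟨τ, hτ⟩ := h.act x hx
    exact ⟨σ⁻¹ * τ * σ, (ind_comp (σ := σ) ⟨hx, hτ⟩ : Ind L _ x _).eq⟩
  full := fun τ => by
    obtain ⟨x, hx, h1⟩ := h.full (σ * τ * σ⁻¹)
    refine ⟨x, hx, fun a => ?_⟩
    rw [h1]
    simp
  cv := by
    rw [range_comp]
    exact h.cv
  TL := by
    rintro _ ⟨x, hx, rfl⟩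
    exact mul_mem (mul_mem hg.mem (h.TL hx)) (inv_mem hg.mem)
  TX := by
    rw [X_comp, ← hg.X_eq]
    exact cj_mono g h.TX
  syl := by
    rw [Y_comp, ← hg.Y_eq]
    exact syl_cjR g h.syl
  wab := by
    rw [W_comp, ← hg.W_eq]
    exact isElementaryAbelian_cj g h.wab
  cw := by
    rw [W_comp, ← hg.W_eq, X_comp, ← hg.X_eq, ← cj_centralizer, ← cj_inf, ← cj_centralizer]
    exact cj_mono g h.cw
  no := by
    intro A hA hAO
    rw [N_comp, ← hg.N_eq]
    rw [X_comp, ← hg.X_eq, o2_cj] at hAO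
    have h1 := h.no (cj g⁻¹ A) (isElementaryAbelian_cj g⁻¹ hA) (by
      have h2 := cj_mono g⁻¹ hAO
      rwa [cj_inv_cj] at h2)
    have h2 : cj g (cj g⁻¹ A) = A := cj_cj_inv g A
    rw [← relIndex_cj g, ← relIndex_cj g (centralizer ((cj g⁻¹ A : Subgroup G) : Set G)) _, cj_centralizer,
      cj_centralizer, h2] at h1
    exact h1

theorem fr5_exists_reindex [Finite G] {T : Subgroup G} (h : Fr5 L T z) (σ : Equiv.Perm (Fin 5)) :
    ∃ g, Ind L z g σ ∧ Fr5 L (cj g T) (fun a => z (σ a)) := by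
  obtain ⟨g, hg⟩ := h.ind σ
  exact ⟨g, hg, fr5_reindex h hg⟩

end Cfsg.Agent.Omega.NO3S.MFive.Rx

end

section


/-!
# THEOREM M5, the dichotomy by offenders (helper604 #25469 (1) (ii))

* `HF L z` : an elementary abelian-type lever `F ≤ O_2(X_12)` moving `N_04` with `[W_0, F] ≤ N_04`;
* `Fr5.hf_or` : `HF`, or no elementary abelian `A ≤ O_2(X_12)` offends `W_0`;
* `Fr5.W_le_of`, `Fr5.W_le_W_of` : (5) from `HF`.
-/

set_option autoImplicit false
set_option linter.unusedSectionVars false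
set_option linter.unusedVariables false

namespace Cfsg.Agent.Omega.NO3S.MFive

open Subgroup Cfsg Cfsg.Agent.ZN Cfsg.Agent.ZN.ChoiceBase
open Cfsg.Agent.ZN.ChoiceSit
open Cfsg.Agent.Omega.NO3S.EThree
open Cfsg.Agent.Omega.EK3.Rank (NoOn)
open Cfsg.Agent.Omega.EK3.Lever (Dt relIndex_cj offd_cj)
open Cfsg.Agent.Omega.ESym.CoreS (mem_norm_of_le jj_norm jj_ne_bot)
open scoped commutatorElement

universe u

variable {G : Type u} [Group G]

/-- the lever: `F ≤ O_2(X_12)` moves `N_04` and `[W_0, F] ≤ N_04` -/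
def HF (L : Subgroup G) (z : Fin 5 → G) : Prop :=
  ∃ F : Subgroup G, F ≤ o2 (X z 1 2) ∧ ¬ F ≤ centralizer (N L z 0 4 : Set G) ∧
    ∀ e ∈ W L z 0, ∀ f ∈ F, ⁅e, f⁆ ∈ N L z 0 4

variable [Finite G] {L T : Subgroup G} {z : Fin 5 → G}

section main

variable (h : Fr5 L T z)
include h

/-- an elementary abelian offender of `O_2(X_12)` on `W_0` gives the lever -/
theorem Fr5.hf_of_offd {A : Subgroup G} (hAO : A ≤ o2 (X z 1 2)) (hA : IsElementaryAbelian 2 A)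
    (hoff : Offd (W L z 0) A) : HF L z := by
  obtain ⟨g, σ, hg, hX, hO, h43, h34, y43, y34, hW⟩ := h.swap'
  obtain ⟨i, F, hFO, hFe, hFm, hF⟩ := h.dt.lever hAO hA hoff
  cases i
  · exact ⟨F, hFO, hFm, hF⟩
  · refine ⟨cj g F, ?_, ?_, ?_⟩
    · have := cj_mono g hFO
      rwa [hO] at this
    · intro hc
      apply hFm
      change F ≤ centralizer (N L z 0 3 : Set G)
      rw [← h34, ← cj_centralizer] at hc
      have h1 := cj_mono g⁻¹ hc
      rwa [cj_inv_cj, cj_inv_cj] at h1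
    · rintro e he _ ⟨f, hf, rfl⟩
      rw [← hW] at he
      obtain ⟨e, he, rfl⟩ := he
      have h1 : ⁅e, f⁆ ∈ N L z 0 3 := hF e he f hf
      rw [← h34]
      refine ⟨_, h1, ?_⟩
      exact map_commutatorElement _ _ _

/-- **the dichotomy** -/
theorem Fr5.hf_or : HF L z ∨
    ∀ A : Subgroup G, A ≤ o2 (X z 1 2) → IsElementaryAbelian 2 A → ¬ Offd (W L z 0) A := by
  by_cases hE : ∃ A : Subgroup G, A ≤ o2 (X z 1 2) ∧ IsElementaryAbelian 2 A ∧ Offd (W L z 0) A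
  · obtain ⟨A, h1, h2, h3⟩ := hE
    exact Or.inl (h.hf_of_offd h1 h2 h3)
  · push Not at hE
    exact Or.inr hE

/-- (5) `M_0` normalises `N_03 N_04`: `W_0 ≤ N_03 N_04`. -/
theorem Fr5.W_le_of (hE : HF L z) : W L z 0 ≤ N L z 0 3 ⊔ N L z 0 4 := by
  obtain ⟨F, hFO, hFm, hF⟩ := hE
  have hYE : Y L z 0 4 ≤ normalizer (W L z 0 : Set G) := (Y_le_M_left 0 4).trans (M_norm_W 0)
  -- the normal closure of `F` in `Y_04`
  let K : Subgroup G := nc (Y L z 0 4) F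
  have hFY : F ≤ Y L z 0 4 := hFO.trans h.O_le_Y04
  have hKY : K ≤ Y L z 0 4 := nc_le hFY Subgroup.le_normalizer
  have hYK : Y L z 0 4 ≤ normalizer (K : Set G) := nc_norm _ _
  have hKN : K ≤ normalizer ((N L z 0 3 ⊔ N L z 0 4 : Subgroup G) : Set G) := by
    refine iSup_le fun y => ?_
    intro x hx
    refine mem_norm_of_le ?_
    rw [cj, Subgroup.map_sup]
    have hxY : x ∈ Y L z 0 4 := hKY (cj_le_nc y.2 hx)
    refine sup_le ?_ ?_
    · rintro _ ⟨n, hn, rfl⟩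
      change x * n * x⁻¹ ∈ _
      obtain ⟨f, hf, e⟩ := hx
      have e' : x = (y : G) * f * (y : G)⁻¹ := by rw [← e]; rfl
      have hnE : n ∈ W L z 0 := h.N03_le_W hn
      have hn' : (y : G)⁻¹ * n * y ∈ W L z 0 := by
        have := (mem_normalizer_iff.1 (hYE (inv_mem y.2)) n).1 hnE
        rwa [inv_inv] at this
      have h1 := hF _ hn' f hf
      have h2 : (y : G) * ⁅(y : G)⁻¹ * n * y, f⁆ * (y : G)⁻¹ ∈ N L z 0 4 :=
        (mem_normalizer_iff.1 (Y_norm_N 0 4 y.2) _).1 h1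
      have h3 : ⁅n, x⁆ = (y : G) * ⁅(y : G)⁻¹ * n * y, f⁆ * (y : G)⁻¹ := by
        rw [e']
        simp only [commutatorElement_def]
        group
      have h4 : x * n * x⁻¹ = ⁅n, x⁆⁻¹ * n := by
        simp only [commutatorElement_def]
        group
      rw [h4]
      exact mul_mem (inv_mem (mem_sup_right (by rw [h3]; exact h2))) (mem_sup_left hn)
    · have h1 := cj_eq_of_mem_normalizer (Y_norm_N 0 4 hxY)
      exact (le_of_eq h1).trans le_sup_right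
  have hXN : X z 1 2 ≤ normalizer ((N L z 0 3 ⊔ N L z 0 4 : Subgroup G) : Set G) := fun x hx =>
    norm_sup (Y_norm_N 0 3 (h.X_le_Y03 hx)) (Y_norm_N 0 4 (h.X_le_Y04 hx))
  have h04 : Y L z 0 4 ≤ normalizer ((N L z 0 3 ⊔ N L z 0 4 : Subgroup G) : Set G) :=
    (h.gen hKY hYK (le_nc _ _) (hFO.trans (ChoiceSit.o2_le _)) hFm).trans (sup_le hKN hXN)
  have h03 : Y L z 0 3 ≤ normalizer ((N L z 0 3 ⊔ N L z 0 4 : Subgroup G) : Set G) := by
    obtain ⟨g, σ, hg, hX, hO, h43, h34, y43, y34, hW⟩ := h.swap'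
    have h1 := cj_mono g h04
    have e : cj g (N L z 0 3 ⊔ N L z 0 4) = N L z 0 3 ⊔ N L z 0 4 := by
      have : cj g (N L z 0 3 ⊔ N L z 0 4) = cj g (N L z 0 3) ⊔ cj g (N L z 0 4) := Subgroup.map_sup _ _ _
      rw [this, h34, h43, sup_comm]
    rwa [y43, cj_normalizer, e] at h1
  refine nc_le ((closure_le _).2 ?_) (h.M_le.trans (sup_le h03 h04))
  have hz : ∀ c, c ≠ 0 → z c ∈ N L z 0 3 ⊔ N L z 0 4 := by
    intro c h0
    by_cases h4 : c = 4
    · rw [h4]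
      exact mem_sup_left (z_mem_N (by decide) (by decide))
    · exact mem_sup_right (z_mem_N h0 h4)
  rintro _ ⟨c, rfl⟩
  by_cases h0 : c = 0
  · rw [h0, h.prod]
    exact mul_mem (mul_mem (mul_mem (hz 1 (by decide)) (hz 2 (by decide))) (hz 3 (by decide))) (hz 4 (by decide))
  · exact hz c h0

/-- `W_a ≤ W_b W_c` -/
theorem Fr5.W_le_W_of (hE : HF L z) {a b c : Fin 5} (hab : a ≠ b) (hac : a ≠ c)
    (hbc : b ≠ c) : W L z a ≤ W L z b ⊔ W L z c := by
  have h1 : W L z 0 ≤ W L z 3 ⊔ W L z 4 :=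
    (h.W_le_of hE).trans (sup_le_sup (N_le_W_right 0 3) (N_le_W_right 0 4))
  obtain ⟨τ, t0, t3, t4⟩ := perm_three (a := 0) (b := 3) (c := 4) (a' := a) (b' := b) (c' := c) (by decide)
    (by decide) (by decide) hab hac hbc
  obtain ⟨g, hg⟩ := h.ind τ
  have h2 := cj_mono g h1
  have e : cj g (W L z 3 ⊔ W L z 4) = cj g (W L z 3) ⊔ cj g (W L z 4) := Subgroup.map_sup _ _ _
  rwa [e, hg.W_eq, hg.W_eq, hg.W_eq, t0, t3, t4] at h2

end main

end Cfsg.Agent.Omega.NO3S.MFive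

end
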