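import Cfsg.Agent.Mrg.Omega.EK3.Rank
import Cfsg.Agent.Omega.NO3S.MFive.Wab


/-!
# THEOREM M5: the fields `wab`, `cw` of `Fr5` (helper829)

`Fr5` (helper693) from the frame without `wab`, `cw`: `L = N(V)`, a Sylow 2-subgroup of `C(z 0)` in `L`, characteristic 2
of `C(z 0)`, `Q` Sylow in `C(V)`, `Ω₁Z(Q) ≤ V`, `Q ≤ T`, some `t ∈ T` induces `(12)`, and `X z 1 2 ≰ L`.
-/

set_option autoImplicit false
set_option linter.unusedSectionVars false

namespace Cfsg.Agent.Omega.NO3S.MFive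

open Subgroup Cfsg Cfsg.Agent.ZN Cfsg.Agent.ZN.ChoiceBase
open Cfsg.Agent.ZN.ChoiceSit (Syl)
open Cfsg.Agent.Omega.EK3.Rank (NoOn)

universe u

variable {G : Type u} [Group G]

theorem mem_X {z : Fin 5 → G} {i j : Fin 5} {x : G} :
    x ∈ X z i j ↔ ∀ k, k ≠ i → k ≠ j → x * z k = z k * x := by
  rw [X, mem_centralizer_iff]
  constructor
  · intro h k h1 h2
    exact (h (z k) ⟨k, h1, h2, rfl⟩).symm
  · rintro h _ ⟨k, h1, h2, rfl⟩
    exact (h k h1 h2).symm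

theorem X_le_M {L : Subgroup G} {z : Fin 5 → G} {a k l : Fin 5} (hkl : k ≠ l) (hk : k ≠ a) (hl : l ≠ a) :
    X z k l ≤ M L z a := by
  refine le_trans ?_ (le_sup_right : _ ≤ M L z a)
  refine le_trans ?_ (le_iSup _ k)
  refine le_trans ?_ (le_iSup _ l)
  exact le_iSup (fun _ : k ≠ l ∧ k ≠ a ∧ l ≠ a => X z k l) ⟨hkl, hk, hl⟩

theorem M_le (L : Subgroup G) (z : Fin 5 → G) (a : Fin 5) : M L z a ≤ centralizer ({z a} : Set G) := by
  refine sup_le inf_le_right (iSup_le fun k => iSup_le fun l => iSup_le ?_)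
  rintro ⟨-, hk, hl⟩ x hx
  exact mem_centralizer_singleton_iff.2 (mem_X.1 hx a (Ne.symm hk) (Ne.symm hl))

/-- the data of `Fr5` without `wab`, `cw` -/
structure Pre (L T Q S₀ : Subgroup G) (z : Fin 5 → G) : Prop where
  sq : ∀ a, z a * z a = 1
  comm : ∀ a b, z a * z b = z b * z a
  prod : z 0 = z 1 * z 2 * z 3 * z 4
  inj : Function.Injective z
  act : ∀ g ∈ L, ∃ σ : Equiv.Perm (Fin 5), ∀ a, g * z a * g⁻¹ = z (σ a)
  full : ∀ σ : Equiv.Perm (Fin 5), ∃ g ∈ L, ∀ a, g * z a * g⁻¹ = z (σ a)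
  /-- `N(V) ≤ L` (so `C(V) ≤ L`) -/
  NL : normalizer (V z : Set G) ≤ L
  TL : T ≤ L
  TX : T ≤ X z 1 2
  syl : Syl T (Y L z 0 4)
  /-- `S₀` is a Sylow 2-subgroup of `C(z 0)` -/
  sylS : Syl S₀ (centralizer ({z 0} : Set G))
  SL : S₀ ≤ L
  c2 : centralizer ({z 0} : Set G) ⊓ centralizer (o2 (centralizer ({z 0} : Set G)) : Set G) ≤
    o2 (centralizer ({z 0} : Set G))
  sylQ : Syl Q (centralizer (V z : Set G))
  QT : Q ≤ T
  zQ : ∀ x ∈ Q, x * x = 1 → (∀ q ∈ Q, q * x = x * q) → x ∈ V z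
  /-- some `t ∈ T` induces `(12)` -/
  mv : ∃ t ∈ T, t * z 1 * t⁻¹ = z 2
  no : NoOn (o2 (X z 1 2)) (N L z 0 4)

namespace Pre

variable [Finite G] {L T Q S₀ : Subgroup G} {z : Fin 5 → G} (h : Pre L T Q S₀ z) (hX : ¬ X z 1 2 ≤ L)

include h

theorem wf (hX : ¬ X z 1 2 ≤ L) : WF L (M L z 0) (X z 1 2) S₀ z where
  sq := h.sq
  comm := h.comm
  prod := h.prod
  act := h.act
  full := h.full
  inj := h.inj
  NL := h.NL
  LM := le_sup_left
  MC := M_le L z 0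
  XM := X_le_M (by decide) (by decide) (by decide)
  hX := fun x hx k h1 h2 => mem_X.1 hx k h1 h2
  nX := hX
  syl := h.sylS
  SL := h.SL
  c2 := h.c2

theorem cent_le : centralizer (Set.range z) ≤ L := by
  refine le_trans ?_ h.NL
  rw [← centralizer_closure]
  exact le_normalizer_centralizer' z
where
  le_normalizer_centralizer' (z : Fin 5 → G) :
      centralizer (closure (Set.range z) : Set G) ≤ normalizer (V z : Set G) :=
    centralizer_le_normalizer _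

/-- **`Fr5` from `Pre`.** -/
theorem fr5 (hX : ¬ X z 1 2 ≤ L) : Fr5 L T z where
  sq := h.sq
  comm := h.comm
  prod := h.prod
  inj := h.inj
  act := h.act
  full := h.full
  cv := h.cent_le
  TL := h.TL
  TX := h.TX
  syl := h.syl
  wab := by
    obtain ⟨h1, h2⟩ := (h.wf hX).wab (W := W L z 0) rfl
    exact ⟨⟨⟨fun x y => Subtype.ext (h2 x x.2 y y.2)⟩⟩, fun x hx => by rw [pow_two]; exact h1 x hx⟩
  cw := by
    obtain ⟨t, ht, h1⟩ := h.mv
    refine (h.wf hX).cw (W := W L z 0) rfl (Q := Q) (T := T) (Y := X z 1 2) h.sylQ h.QT h.zQ ?_ ht h1 ?_ ?_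
    · exact (centralizer_le_normalizer _).trans h.NL
    · intro k hk1 hk2
      have h2 := mem_X.1 (h.TX ht) k hk1 hk2
      rw [h2]; group
    · intro y hy k hk1 hk2
      exact mem_X.1 hy k hk1 hk2
  no := h.no

end Pre

end Cfsg.Agent.Omega.NO3S.MFive
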