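import Cfsg.Agent.Mrg.Omega.Node.SymG
import Cfsg.Agent.Mrg.Omega.NO3S.Level.Fam
import Cfsg.Agent.Mrg.Omega.NO3S.MFive.Basic
import Cfsg.Agent.Mrg.Omega.NO3S.MFive.WabF
import Cfsg.Agent.Mrg.Omega.NO3S.Sym.Light
import Cfsg.Agent.Mrg.Omega.ML.MinIrr
import Cfsg.Agent.Mrg.Omega.EDel.GenS

section


/-!
# THEOREM M5: (T6) `Ω₁(Z(O₂(P))) = V_P` at every stage `StgG`

* `zc_o2_stg` : `HypN S P` and `StgG S P K B ZJ` (stage `-1`, every level, the case (L)).
-/

set_option autoImplicit false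

namespace Cfsg.Agent.Omega.NO3S.MFive

open Subgroup Cfsg Cfsg.Agent.ZN Cfsg.Agent.ZN.ChoiceBase
open Cfsg.Agent.Omega.MinPar (IsParS)
open Cfsg.Agent.Omega.NO3S (HypF HypN Hyp)
open Cfsg.Agent.Omega.NO3S.Level (lev nxt Lev BO)
open Cfsg.Agent.Omega.Node.MulG (Top StgG)

universe u

variable {G : Type u} [Group G] [Finite G] {S : Sylow 2 G} {P K B ZJ : Subgroup G}

/-- `nxt S K₀ ≰ O₂(P)` gives a best offender. -/
theorem exists_BO_stg (hG : IsCharacteristicTwoType G) (hP : IsParS (S : Subgroup G) P) {K₀ : Subgroup G}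
    (h : Top S P K₀) : ∃ A ∈ BO (S : Subgroup G) K₀, ¬ A ≤ o2 P := by
  by_contra hcon
  push Not at hcon
  apply h.nxt
  refine sup_le ?_ (sSup_le hcon)
  have h3 : zl (S : Subgroup G) P ≤ zc K₀ :=
    (hP.isLoc.zl_le S hG).trans (h.lev.zc_o2_le h.le (hP.isLoc.o2_le S))
  rw [← IsParS.inf_centralizer S hG hP]
  exact inf_le_inf_left _ (centralizer_le h3)

/-- **(T6) at every stage**: `Ω₁(Z(O₂(P))) = V_P`. -/
theorem zc_o2_stg (h : HypN S P) (hs : StgG S P K B ZJ) : Cfsg.Agent.ZN.zc (o2 P) = zl (S : Subgroup G) P := by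
  have hG := h.ctx.char2
  have hP := h.star
  cases hs with
  | neg hj =>
    have hQS : o2 P ≤ (S : Subgroup G) := NO3S.OneLine.o2_le S hP.toIsPar
    have hJ : ¬ jj (S : Subgroup G) ≤ centralizer (zl (S : Subgroup G) P : Set G) := fun hc => hj (by
      rw [← IsParS.inf_centralizer S hG hP]
      exact le_inf (ChoiceBase.jj_le _) hc)
    obtain ⟨A, hA, hAQ⟩ := NO3S.OneLine.exists_AA hG hP hJ
    have hX : IsElementaryAbelian 2 (Cfsg.Agent.ZN.zc (o2 P)) := NO3S.OneLine.zc_elem _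
    have hXS : Cfsg.Agent.ZN.zc (o2 P) ≤ (S : Subgroup G) := (Cfsg.Agent.MinSimple.VModule.zc_le _).trans hQS
    have hb := NO3S.Level.bfam_AA (S := (S : Subgroup G)) (L := ⊤) hX hXS
    have h1 := NO3S.OneLine.exa_bo FF.Glob.ffthmM hG hP hX hXS
      ((Cfsg.Agent.MinSimple.VModule.le_normalizer_o2 P).trans (NO3S.Level.normalizer_le_zc _)) le_rfl
      h.toHyp.inf_eq_bot ⟨A, ⟨hb.le A hA, hb.elem A hA, hb.best A hA⟩, hAQ⟩
    exact h1.1.zc_o2 h1.2
  | lev K₀ hT =>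
    exact (NO3S.OneLine.lev_eq FF.Glob.ffthmM hG hP hT.lev hT.le h.toHyp.inf_eq_bot
      (exists_BO_stg hG hP hT)).1

end Cfsg.Agent.Omega.NO3S.MFive

end

section


/-!
# THEOREM M5: the instance for `Sym.Light.FiveL`, every stage

`z 0 = p 4`, `z 1 = p 0`, `z 2 = p 1`, `z 3 = p 2`, `z 4 = p 3`; `L = N_G(V_P)`, `Q = O₂(P)`, `T = S ∩ X_12`.
The only input on the stage is (T6): `Ω₁(Z(O₂(P))) = V_P` (`zc_o2_stg`).

* `pre`, `fr5` : the frame of THEOREM M5;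
* `local_five` : `⟨N_G(V), C_G(p 2, p 3, p 4)⟩` is 2-local.
-/

set_option autoImplicit false
set_option linter.unusedSectionVars false

namespace Cfsg.Agent.Omega.NO3S.MFive.Inst

open Subgroup Cfsg Cfsg.Agent.ZN Cfsg.Agent.ZN.ChoiceBase
open Cfsg.Agent.ZN.ChoiceSit (Syl exists_syl syl_conj syl_not_dvd)
open Cfsg.Agent.Omega.NTwo Cfsg.Agent.Omega.NO3S.Sym.Exit Cfsg.Agent.Omega.NO3S.Sym.Light
open Cfsg.Agent.Omega.EK3.Rank (NoOn)
open Cfsg.Agent.Omega.MinPar (IsParS NonLoc)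
open Cfsg.Agent.Omega.NO3S (Hyp HypN)
open Cfsg.Agent.Omega.Node.MulG (StgG)

universe u

/-! ### `S` induces `D8` -/

theorem mem_D8_of : ∀ σ : Equiv.Perm (Fin 5), σ 4 = 4 →
    (((σ 0 = 0 ∧ σ 1 = 1) ∨ (σ 0 = 1 ∧ σ 1 = 0)) ∨ ((σ 0 = 2 ∧ σ 1 = 3) ∨ (σ 0 = 3 ∧ σ 1 = 2))) → σ ∈ D8 := by
  decide +kernel

theorem swap01_mem : Equiv.swap (0 : Fin 5) 1 ∈ D8 := by decide +kernel

theorem swap23_mem : Equiv.swap (2 : Fin 5) 3 ∈ D8 := by decide +kernel

variable {G : Type u} [Group G]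

/-- the labels -/
def rho : Equiv.Perm (Fin 5) := Equiv.subRight 1

/-- `z 0 = p 4`, `z 1 = p 0`, `z 2 = p 1`, `z 3 = p 2`, `z 4 = p 3` -/
def zv (p : Fin 5 → G) : Fin 5 → G := p ∘ rho

theorem zv0 (p : Fin 5 → G) : zv p 0 = p 4 := rfl
theorem zv1 (p : Fin 5 → G) : zv p 1 = p 0 := rfl
theorem zv2 (p : Fin 5 → G) : zv p 2 = p 1 := rfl
theorem zv3 (p : Fin 5 → G) : zv p 3 = p 2 := rfl
theorem zv4 (p : Fin 5 → G) : zv p 4 = p 3 := rfl

theorem range_zv (p : Fin 5 → G) : Set.range (zv p) = Set.range p := rho.surjective.range_comp p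

theorem mem_X12 {p : Fin 5 → G} {x : G} :
    x ∈ X (zv p) 1 2 ↔ x * p 4 = p 4 * x ∧ x * p 2 = p 2 * x ∧ x * p 3 = p 3 * x := by
  rw [mem_X]
  constructor
  · intro h
    exact ⟨h 0 (by decide) (by decide), h 3 (by decide) (by decide), h 4 (by decide) (by decide)⟩
  · rintro ⟨h0, h3, h4⟩ k h1 h2
    have key : ∀ k : Fin 5, k ≠ 1 → k ≠ 2 → k = 0 ∨ k = 3 ∨ k = 4 := by decide
    rcases key k h1 h2 with rfl | rfl | rfl
    · exact h0
    · exact h3
    · exact h4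

theorem Y_le (L : Subgroup G) (z : Fin 5 → G) (a b : Fin 5) : Y L z a b ≤ centralizer {z a, z b} := by
  refine sup_le inf_le_right (iSup_le fun k => iSup_le fun l => iSup_le ?_)
  rintro ⟨-, ⟨hk1, hk2⟩, hl1, hl2⟩ x hx
  refine mem_centralizer_iff.2 ?_
  rintro y (rfl | rfl)
  · exact (mem_X.1 hx a hk1.symm hl1.symm).symm
  · exact (mem_X.1 hx b hk2.symm hl2.symm).symm

theorem X_le_Y {L : Subgroup G} {z : Fin 5 → G} {a b k l : Fin 5} (hkl : k ≠ l) (h1 : k ≠ a) (h2 : k ≠ b)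
    (h3 : l ≠ a) (h4 : l ≠ b) : X z k l ≤ Y L z a b := by
  refine le_trans ?_ (le_sup_right : _ ≤ Y L z a b)
  refine le_trans ?_ (le_iSup _ k)
  refine le_trans ?_ (le_iSup _ l)
  exact le_iSup (fun _ : k ≠ l ∧ (k ≠ a ∧ k ≠ b) ∧ l ≠ a ∧ l ≠ b => X z k l) ⟨hkl, ⟨h1, h2⟩, h3, h4⟩

theorem Y_le_M (L : Subgroup G) (z : Fin 5 → G) (a b : Fin 5) : Y L z a b ≤ M L z a := by
  refine sup_le ?_ (iSup_le fun k => iSup_le fun l => iSup_le ?_)
  · exact le_trans (inf_le_inf_left _ (centralizer_le (Set.singleton_subset_iff.2 (Or.inl rfl)))) le_sup_left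
  · rintro ⟨hkl, ⟨hk1, -⟩, hl1, -⟩
    exact X_le_M hkl hk1 hl1

theorem N_le_W (L : Subgroup G) (z : Fin 5 → G) (a b : Fin 5) : N L z a b ≤ W L z a := by
  refine iSup_le fun y => ?_
  refine le_trans (cj_mono _ ?_) (le_iSup (fun m : M L z a => cj (m : G) (V z)) ⟨y, Y_le_M L z a b y.2⟩)
  refine closure_mono ?_
  rintro _ ⟨c, -, -, rfl⟩
  exact ⟨c, rfl⟩

variable [Finite G] {S : Sylow 2 G} {P : Subgroup G} {p : Fin 5 → G}

/-- a Sylow 2-subgroup in standard position induces `D8` -/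
theorem std_all (h : Std (S : Subgroup G) P p) {d : Equiv.Perm (Fin 5)} (hd : d ∈ D8) :
    ∃ x ∈ (S : Subgroup G), ∀ i, x * p i * x⁻¹ = p (d i) := by
  have hp : Fact (Nat.Prime 2) := ⟨Nat.prime_two⟩
  obtain ⟨φ, hφs, hφ⟩ := h.exists_hom
  obtain ⟨D, hD⟩ := exists_D8
  obtain ⟨R, hR⟩ : ∃ R : Sylow 2 (Equiv.Perm (Fin 5)), R = (S.subtype h.le).mapSurjective hφs := ⟨_, rfl⟩
  have h2 : (R : Subgroup _) = ((S : Subgroup G).subgroupOf P).map φ := by
    rw [hR, Sylow.coe_mapSurjective]; rfl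
  have h3 : (R : Subgroup _) ≤ D8 := by
    rw [h2]
    rintro _ ⟨x, hx, rfl⟩
    have hxS : (x : G) ∈ (S : Subgroup G) := mem_subgroupOf.1 hx
    have h4 := h.fix x hxS
    rw [hφ] at h4
    refine mem_D8_of _ (h.inj h4) ?_
    rcases h.part x hxS with h5 | h5
    · rw [cm, hφ, hφ] at h5
      exact Or.inl (h.pair_inj (fun e => absurd ((φ x).injective e) (by decide)) (by decide) h5)
    · rw [cm, hφ, hφ] at h5
      exact Or.inr (h.pair_inj (fun e => absurd ((φ x).injective e) (by decide)) (by decide) h5)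
  have h4 : (D8 : Subgroup _) = R := R.is_maximal' (hD ▸ D.isPGroup') h3
  have h5 : d ∈ ((S : Subgroup G).subgroupOf P).map φ := by
    rw [← h2, ← h4]
    exact hd
  obtain ⟨x, hx, rfl⟩ := h5
  exact ⟨x, mem_subgroupOf.1 hx, fun i => hφ x i⟩

/-- `T = S ∩ X_12` -/
def TT (S : Subgroup G) (p : Fin 5 → G) : Subgroup G := S ⊓ X (zv p) 1 2

section inst

variable (h : FiveL S P p)
include h

theorem not_light {g : G} {i j k : Fin 5} (hjk : j ≠ k) : g * p i * g⁻¹ ≠ p j * p k := by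
  intro e
  obtain ⟨a, -, ha⟩ := h.heavy i
  obtain ⟨b, -, hb⟩ := h.lights hjk
  refine h.not_conj (b⁻¹ * g * a) ?_
  calc b⁻¹ * g * a * p 4 * (b⁻¹ * g * a)⁻¹ = b⁻¹ * (g * (a * p 4 * a⁻¹) * g⁻¹) * b := by group
    _ = b⁻¹ * (b * nn p * b⁻¹) * b := by rw [ha, e, hb]
    _ = nn p := by group

/-- a conjugate of `p i` in `V` is some `p j` -/
theorem heavy_of {g : G} {i : Fin 5} (hg : g * p i * g⁻¹ ∈ zl (S : Subgroup G) P) : ∃ j, g * p i * g⁻¹ = p j := by
  rcases h.elts hg with h2 | ⟨j, h2⟩ | ⟨j, k, hjk, h2⟩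
  · exfalso
    apply h.std.ne i
    calc p i = g⁻¹ * (g * p i * g⁻¹) * g := by group
      _ = 1 := by rw [h2]; group
  · exact ⟨j, h2⟩
  · exact absurd h2 (not_light h hjk)

theorem act_norm {g : G} (hg : g ∈ normalizer (zl (S : Subgroup G) P : Set G)) :
    ∃ σ : Equiv.Perm (Fin 5), ∀ a, g * zv p a * g⁻¹ = zv p (σ a) := by
  choose f hf using fun a => heavy_of h (g := g) (i := rho a) ((mem_normalizer_iff.1 hg _).1 (h.p_mem (rho a)))
  have hz : ∀ i, zv p (rho⁻¹ i) = p i := fun i => congrArg p (rho.apply_symm_apply i)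
  have hinj : Function.Injective fun a => rho⁻¹ (f a) := by
    intro a b hab
    have h1 : f a = f b := (rho⁻¹).injective hab
    have h2 : g * p (rho a) * g⁻¹ = g * p (rho b) * g⁻¹ := by rw [hf, hf, h1]
    exact rho.injective (h.std.inj (conj_inj h2))
  refine ⟨Equiv.ofBijective _ (Finite.injective_iff_bijective.1 hinj), fun a => ?_⟩
  rw [Equiv.ofBijective_apply, hz]
  exact hf a

theorem V_zv : V (zv p) = zl (S : Subgroup G) P := by
  rw [V, range_zv, h.gen]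

theorem zfv : Fv P (zv p) := h.std.toFv.relabel rho

theorem VQ : zl (S : Subgroup G) P ≤ o2 P := h.zl_le.trans (Cfsg.Agent.MinSimple.VModule.zc_le _)

theorem QS : o2 P ≤ (S : Subgroup G) := h.star.isLoc.o2_le S

theorem VcQ {x v : G} (hx : x ∈ o2 P) (hv : v ∈ zl (S : Subgroup G) P) : x * v = v * x :=
  (ChoiceBase.mem_zc.1 (h.zl_le hv)).2.2 x hx

theorem Q_le_T : o2 P ≤ TT (S : Subgroup G) p := fun _ hq => ⟨QS h hq, mem_X12.2
  ⟨VcQ h hq (h.p_mem 4), VcQ h hq (h.p_mem 2), VcQ h hq (h.p_mem 3)⟩⟩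

theorem cS {x : G} (hx : x ∈ (S : Subgroup G)) (hc : ∀ v ∈ zl (S : Subgroup G) P, x * v = v * x) : x ∈ o2 P := by
  rw [← IsParS.inf_centralizer S h.ctx.char2 h.star]
  exact ⟨hx, mem_centralizer_iff.2 fun v hv => (hc v hv).symm⟩

theorem exists_t : ∃ t ∈ TT (S : Subgroup G) p, t * p 0 * t⁻¹ = p 1 := by
  obtain ⟨t, ht, h1⟩ := std_all h.std swap01_mem
  refine ⟨t, ⟨ht, mem_X12.2 ⟨comm_iff.1 ?_, comm_iff.1 ?_, comm_iff.1 ?_⟩⟩, ?_⟩
  all_goals
    rw [h1]
    rfl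

/-- `C_S(n)` acts on `{p 2, p 3}` -/
theorem T_two' {x : G} (hx : x ∈ Std.T (S : Subgroup G) p) :
    (x * p 2 * x⁻¹ = p 2 ∧ x * p 3 * x⁻¹ = p 3) ∨ (x * p 2 * x⁻¹ = p 3 ∧ x * p 3 * x⁻¹ = p 2) := by
  obtain ⟨σ, hσ⟩ := h.std.perm x (h.std.le (Std.T_le hx))
  have h1 := h.std.T_a hx
  rw [aa, cm, hσ, hσ] at h1
  rcases h.std.pair_inj (fun e => absurd (σ.injective e) (by decide)) (by decide) h1 with ⟨e, e'⟩ | ⟨e, e'⟩
  · left; rw [hσ, hσ, e, e']; exact ⟨rfl, rfl⟩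
  · right; rw [hσ, hσ, e, e']; exact ⟨rfl, rfl⟩

theorem n_eq : nn p = p 2 * p 3 * p 4 := by
  have h1 := h.std.a_eq
  change p 2 * p 3 = nn p * p 4 at h1
  rw [h1, mul_assoc, h.std.sq, mul_one]

theorem mem_TT {x : G} (hx : x ∈ Std.T (S : Subgroup G) p) : x ∈ TT (S : Subgroup G) p ↔ x * p 2 * x⁻¹ = p 2 := by
  constructor
  · intro h1
    exact comm_iff.2 (mem_X12.1 h1.2).2.1
  · intro h1
    refine ⟨Std.T_le hx, mem_X12.2 ⟨comm_iff.1 (h.std.fix x (Std.T_le hx)), comm_iff.1 h1, comm_iff.1 ?_⟩⟩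
    rcases T_two' h hx with ⟨-, h2⟩ | ⟨h2, -⟩
    · exact h2
    · exact absurd (h.std.inj (h1.symm.trans h2)) (by decide)

theorem TT_le : TT (S : Subgroup G) p ≤ Std.T (S : Subgroup G) p := by
  rintro x ⟨hx, hx'⟩
  obtain ⟨h4, h2, h3⟩ := mem_X12.1 hx'
  refine Std.mem_T.2 ⟨hx, ?_⟩
  rw [n_eq h, cm, cm, comm_iff.2 h2, comm_iff.2 h3, comm_iff.2 h4]

theorem card_T : Nat.card (Std.T (S : Subgroup G) p) = 2 * Nat.card (TT (S : Subgroup G) p) := by
  have e : Nat.card ((TT (S : Subgroup G) p).subgroupOf (Std.T (S : Subgroup G) p)) = Nat.card (TT (S : Subgroup G) p) :=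
    Nat.card_congr (subgroupOfEquivOfLe (TT_le h)).toEquiv
  have h1 := card_mul_index ((TT (S : Subgroup G) p).subgroupOf (Std.T (S : Subgroup G) p))
  obtain ⟨s, hsS, hs⟩ := std_all h.std swap23_mem
  have hs2 : s * p 2 * s⁻¹ = p 3 := hs 2
  have hs3 : s * p 3 * s⁻¹ = p 2 := hs 3
  have hsT : s ∈ Std.T (S : Subgroup G) p := by
    refine Std.mem_T.2 ⟨hsS, ?_⟩
    rw [cm, hs, hs]
    rfl
  have hs' : s⁻¹ * p 2 * s⁻¹⁻¹ = p 3 := by
    rw [← hs3]; group
  have h3 : ((TT (S : Subgroup G) p).subgroupOf (Std.T (S : Subgroup G) p)).index = 2 := by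
    rw [index_eq_two_iff]
    refine ⟨⟨s, hsT⟩⁻¹, fun b => ?_⟩
    rw [mem_subgroupOf, mem_subgroupOf]
    change Xor ((b : G) * s⁻¹ ∈ TT (S : Subgroup G) p) ((b : G) ∈ TT (S : Subgroup G) p)
    rw [mem_TT h b.2, mem_TT h (mul_mem b.2 (inv_mem hsT)), ← cc, hs']
    rcases T_two' h b.2 with ⟨e1, e2⟩ | ⟨e1, e2⟩
    · refine Or.inr ⟨e1, fun e3 => ?_⟩
      exact absurd (h.std.inj (e3.symm.trans e2)) (by decide)
    · refine Or.inl ⟨e2, fun e3 => ?_⟩
      exact absurd (h.std.inj (e3.symm.trans e1)) (by decide)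
  rw [e, h3] at h1
  omega

theorem syl_n : Syl (Std.T (S : Subgroup G) p) (centralizer ({nn p} : Set G)) := by
  have hf : Fact (Nat.Prime 2) := ⟨Nat.prime_two⟩
  have hT : IsPGroup 2 (Std.T (S : Subgroup G) p) := S.isPGroup'.to_le Std.T_le
  refine ⟨inf_le_right, hT, fun Q hQX hQ hTQ => le_antisymm ?_ hTQ⟩
  obtain ⟨k, hk⟩ := IsPGroup.iff_card.1 hQ
  have h1 : (Std.T (S : Subgroup G) p).relIndex Q ∣ 2 ^ k := hk ▸ relIndex_dvd_card _ Q
  obtain ⟨j, _, hj⟩ := (Nat.dvd_prime_pow Nat.prime_two).1 h1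
  have h2 : (Std.T (S : Subgroup G) p).relIndex Q ∣ (Std.T (S : Subgroup G) p).relIndex (centralizer ({nn p} : Set G)) :=
    Dvd.intro _ (relIndex_mul_relIndex _ Q _ hTQ hQX)
  have h3 : j = 0 := by
    by_contra hne
    exact h.not_dvd ((dvd_pow_self 2 hne).trans (hj ▸ h2))
  rw [h3, pow_zero] at hj
  exact relIndex_eq_one.1 hj

variable (hz : Cfsg.Agent.ZN.zc (o2 P) = zl (S : Subgroup G) P)
include hz

theorem zc_T_le : Cfsg.Agent.ZN.zc (TT (S : Subgroup G) p) ≤ zl (S : Subgroup G) P := by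
  intro x hx
  obtain ⟨h1, h2, h3⟩ := ChoiceBase.mem_zc.1 hx
  rw [← hz]
  refine ChoiceBase.mem_zc.2 ⟨cS h h1.1 fun v hv => (h3 v (Q_le_T h (VQ h hv))).symm, h2, fun y hy => h3 y (Q_le_T h hy)⟩

/-- **`T = S ∩ X_12` is a Sylow 2-subgroup of `Y_04`.** -/
theorem syl_Y : Syl (TT (S : Subgroup G) p) (Y (normalizer (zl (S : Subgroup G) P : Set G)) (zv p) 0 4) := by
  have hTX : TT (S : Subgroup G) p ≤ X (zv p) 1 2 := inf_le_right
  refine EDel.SylB.syl_of_nc (hTX.trans (X_le_Y (by decide) (by decide) (by decide) (by decide) (by decide)))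
    (S.isPGroup'.to_le inf_le_left) fun R hR hR2 hTR => ?_
  obtain ⟨t, htT, ht⟩ := exists_t h
  have hpT : ∀ k, k = 2 ∨ k = 3 → p k ∈ TT (S : Subgroup G) p := fun k _ =>
    ⟨h.std.mem k, mem_X12.2 ⟨h.std.comm _ _, h.std.comm _ _, h.std.comm _ _⟩⟩
  have hR4 : ∀ g ∈ R, g * p 4 * g⁻¹ = p 4 := fun g hg =>
    comm_iff.2 (mem_centralizer_iff.1 (Y_le _ _ _ _ (hR hg).1) (p 4) (Or.inl rfl)).symm
  have hR3 : ∀ g ∈ R, g * p 3 * g⁻¹ = p 3 := fun g hg =>
    comm_iff.2 (mem_centralizer_iff.1 (Y_le _ _ _ _ (hR hg).1) (p 3) (Or.inr rfl)).symm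
  -- `R` centralises `p 2`
  have hR2' : ∀ g ∈ R, g * p 2 * g⁻¹ = p 2 := by
    intro g hg
    have h1 : p 2 ∈ Cfsg.Agent.ZN.zc (TT (S : Subgroup G) p) :=
      ChoiceBase.mem_zc.2 ⟨hpT 2 (Or.inl rfl), by rw [pow_two, h.std.sq], fun y hy => (mem_X12.1 (hTX hy)).2.1⟩
    have h2 : g * p 2 * g⁻¹ ∈ Cfsg.Agent.ZN.zc (TT (S : Subgroup G) p) :=
      (mem_normalizer_iff.1 (NO3S.Level.normalizer_le_zc _ (hR hg).2) _).1 h1
    obtain ⟨j, hj⟩ := heavy_of h (zc_T_le h hz h2)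
    have h3 : t * p j * t⁻¹ = p j := by
      rw [comm_iff, ← hj]
      exact (ChoiceBase.mem_zc.1 h2).2.2 t htT
    have h4 : j ≠ 0 := by
      rintro rfl
      exact absurd (h.std.inj (h3.symm.trans ht)) (by decide)
    have h5 : j ≠ 1 := by
      rintro rfl
      rw [← ht] at h3
      have h6 := conj_inj h3
      exact absurd (h.std.inj (ht.symm.trans h6)) (by decide)
    have h6 : j ≠ 3 := by
      rintro rfl
      have h7 := conj_inj (hj.trans (hR3 g hg).symm)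
      exact absurd (h.std.inj h7) (by decide)
    have h7 : j ≠ 4 := by
      rintro rfl
      have h7 := conj_inj (hj.trans (hR4 g hg).symm)
      exact absurd (h.std.inj h7) (by decide)
    have key : ∀ j : Fin 5, j ≠ 0 → j ≠ 1 → j ≠ 3 → j ≠ 4 → j = 2 := by decide
    rw [hj, key j h4 h5 h6 h7]
  have hRn : R ≤ centralizer ({nn p} : Set G) := fun g hg => mem_cent.2 (by
    rw [n_eq h, cm, cm, hR2' g hg, hR3 g hg, hR4 g hg])
  by_contra hne
  have hcard : Nat.card (Std.T (S : Subgroup G) p) ≤ Nat.card R := by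
    rw [card_T h]
    obtain ⟨k, hk⟩ := card_dvd_of_le hTR
    have hpos : 0 < Nat.card R := Nat.card_pos
    have hk2 : 2 ≤ k := by
      by_contra hk2
      have hk3 : k = 0 ∨ k = 1 := by omega
      rcases hk3 with rfl | rfl
      · rw [hk, mul_zero] at hpos
        exact absurd hpos (lt_irrefl _)
      · rw [mul_one] at hk
        exact hne (eq_of_le_of_card_ge hTR hk.le).symm
    rw [hk, mul_comm]
    exact Nat.mul_le_mul_left _ hk2
  obtain ⟨R', hR', hRR'⟩ := exists_syl hR2 hRn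
  obtain ⟨d, hd, hdR⟩ := syl_conj (syl_n h) hR'
  have hRe : R = R' := by
    refine eq_of_le_of_card_ge hRR' ?_
    rw [← hdR, card_cj]
    exact hcard
  have key : ∀ k, k = 2 ∨ k = 3 → d⁻¹ * p k * d⁻¹⁻¹ = p 4 := by
    intro k hk
    have hkR : ∀ y ∈ R, y * p k = p k * y := by
      rcases hk with rfl | rfl
      · exact fun y hy => comm_iff.1 (hR2' y hy)
      · exact fun y hy => comm_iff.1 (hR3 y hy)
    have h1 : p k ∈ R := hTR (hpT k hk)
    have hmem : ∀ y : G, y ∈ Std.T (S : Subgroup G) p ↔ d * y * d⁻¹ ∈ R := by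
      intro y
      rw [hRe, ← hdR, mem_cj]
      have e : d⁻¹ * (d * y * d⁻¹) * d = y := by group
      rw [e]
    have h2 : d⁻¹ * p k * d⁻¹⁻¹ ∈ Cfsg.Agent.ZN.zc (Std.T (S : Subgroup G) p) := by
      refine ChoiceBase.mem_zc.2 ⟨?_, ?_, fun y hy => ?_⟩
      · rw [hmem]
        have e : d * (d⁻¹ * p k * d⁻¹⁻¹) * d⁻¹ = p k := by group
        rwa [e]
      · have e : (d⁻¹ * p k * d⁻¹⁻¹) ^ 2 = d⁻¹ * (p k * p k) * d := by rw [pow_two]; group
        rw [e, h.std.sq]; group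
      · have h3 := hkR _ ((hmem y).1 hy)
        calc y * (d⁻¹ * p k * d⁻¹⁻¹) = d⁻¹ * ((d * y * d⁻¹) * p k) * d := by group
          _ = d⁻¹ * (p k * (d * y * d⁻¹)) * d := by rw [h3]
          _ = d⁻¹ * p k * d⁻¹⁻¹ * y := by group
    rcases h.std.mem_zcT.1 h2 with h3 | h3 | h3 | h3
    · exfalso
      apply h.std.ne k
      calc p k = d * (d⁻¹ * p k * d⁻¹⁻¹) * d⁻¹ := by group
        _ = 1 := by rw [h3]; group
    · exact absurd h3 (not_light h (by decide))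
    · exact absurd h3 (not_light h (by decide))
    · exact h3
  have h1 := conj_inj ((key 2 (Or.inl rfl)).trans (key 3 (Or.inr rfl)).symm)
  exact absurd (h.std.inj h1) (by decide)

end inst

section frame

variable (h : FiveL S P p)
include h

theorem syl_S : Syl (S : Subgroup G) (centralizer ({p 4} : Set G)) :=
  ⟨fun x hx => mem_cent.2 (h.std.fix x hx), S.isPGroup', fun _ _ hR hSR => S.is_maximal' hR hSR⟩

theorem SL : (S : Subgroup G) ≤ normalizer (zl (S : Subgroup G) P : Set G) := h.std.le.trans (le_normalizer_zl _ _)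

theorem full_L (σ : Equiv.Perm (Fin 5)) : ∃ g ∈ normalizer (zl (S : Subgroup G) P : Set G),
    ∀ a, g * zv p a * g⁻¹ = zv p (σ a) := by
  obtain ⟨g, hg, h1⟩ := (zfv h).full σ
  exact ⟨g, le_normalizer_zl _ _ hg, h1⟩

theorem prod_z : zv p 0 = zv p 1 * zv p 2 * zv p 3 * zv p 4 := by
  have h1 := h.std.prod
  change p 4 = p 0 * p 1 * p 2 * p 3
  rw [← h1, mul_assoc (p 0 * p 1)]

theorem wf_of (hX : ¬ X (zv p) 1 2 ≤ normalizer (zl (S : Subgroup G) P : Set G)) :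
    WF (normalizer (zl (S : Subgroup G) P : Set G)) (M (normalizer (zl (S : Subgroup G) P : Set G)) (zv p) 0)
      (X (zv p) 1 2) (S : Subgroup G) (zv p) where
  sq a := h.std.sq _
  comm a b := h.std.comm _ _
  prod := prod_z h
  act g hg := act_norm h hg
  full := full_L h
  inj := (zfv h).inj
  NL := by
    have h1 := V_zv h
    rw [V] at h1
    rw [h1]
  LM := le_sup_left
  MC := M_le _ _ 0
  XM := X_le_M (by decide) (by decide) (by decide)
  hX := fun x hx k h1 h2 => mem_X.1 hx k h1 h2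
  nX := hX
  syl := syl_S h
  SL := SL h
  c2 := Cfsg.Agent.MinSimple.Basic.char2_centralizer h.ctx.char2 (by rw [pow_two]; exact h.std.sq 4) (h.std.ne 4)

/-- `O₂(P)` is a Sylow 2-subgroup of `C_G(V)`. -/
theorem sylQ : Syl (o2 P) (centralizer (V (zv p) : Set G)) := by
  rw [V_zv h]
  refine ⟨fun q hq => mem_centralizer_iff.2 fun v hv => (VcQ h hq hv).symm, ChoiceSit.isPGroup_o2 P,
    fun R hR hR2 hQR => ?_⟩
  have hRM : R ≤ normalizer (zl (S : Subgroup G) P : Set G) := hR.trans (centralizer_le_normalizer _)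
  have hS : Syl (S : Subgroup G) (normalizer (zl (S : Subgroup G) P : Set G)) :=
    ⟨SL h, S.isPGroup', fun _ _ hT hST => S.is_maximal' hT hST⟩
  obtain ⟨T, hT, hRT⟩ := exists_syl hR2 hRM
  obtain ⟨k, hk, hkT⟩ := syl_conj hT hS
  have hkS : cj k R ≤ (S : Subgroup G) := (cj_mono k hRT).trans hkT.le
  have h1 : cj k R ≤ o2 P := by
    intro x hx
    refine cS h (hkS hx) fun v hv => ?_
    have h2 : cj k R ≤ centralizer (zl (S : Subgroup G) P : Set G) := by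
      have h3 := cj_mono k hR
      rwa [cj_centralizer, cj_eq_of_mem_normalizer hk] at h3
    exact (mem_centralizer_iff.1 (h2 hx) v hv).symm
  refine (Subgroup.eq_of_le_of_card_ge hQR ?_).symm
  rw [← card_cj k R]
  exact Subgroup.card_le_of_le h1

theorem Y_ne_top (L : Subgroup G) : Y L (zv p) 0 4 ≠ ⊤ := by
  intro e
  have h0 := Y_le L (zv p) 0 4
  rw [e] at h0
  have h1 : centralizer ({p 4} : Set G) = ⊤ := by
    refine top_le_iff.1 (h0.trans (centralizer_le (Set.singleton_subset_iff.2 (Or.inl rfl))))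
  have h2 : normalizer (zpowers (p 4) : Set G) = ⊤ := by
    rw [Cfsg.Agent.MinSimple.Basic.normalizer_zpowers_eq (by rw [pow_two]; exact h.std.sq 4), h1]
  have h3 := h.nonLoc (zpowers (p 4)) (Cfsg.Agent.MinSimple.Basic.isPGroup_zpowers (by rw [pow_two]; exact h.std.sq 4))
    (by rw [h2]; exact le_top) (by rw [h2]; exact le_top)
  exact h.std.ne 4 (zpowers_eq_bot.1 h3)

/-- **(NO)** -/
theorem no (hML : ML.Final.MLK.{u, u}) (hX : ¬ X (zv p) 1 2 ≤ normalizer (zl (S : Subgroup G) P : Set G))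
    (hT : Syl (TT (S : Subgroup G) p) (Y (normalizer (zl (S : Subgroup G) P : Set G)) (zv p) 0 4)) :
    NoOn (o2 (X (zv p) 1 2)) (N (normalizer (zl (S : Subgroup G) P : Set G)) (zv p) 0 4) := by
  intro F hF hFQ
  obtain ⟨L, hL⟩ : ∃ L : Subgroup G, L = normalizer (zl (S : Subgroup G) P : Set G) := ⟨_, rfl⟩
  have hfull : ∀ σ : Equiv.Perm (Fin 5), ∃ g ∈ L, ∀ a, g * zv p a * g⁻¹ = zv p (σ a) := by
    rw [hL]; exact full_L h
  have hwab := (wf_of h hX).wab (W := W (normalizer (zl (S : Subgroup G) P : Set G)) (zv p) 0) rfl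
  rw [← hL] at hT hwab ⊢
  have hbot : normalizer ((⊥ : Subgroup G) : Set G) = ⊤ := normalizer_eq_top _
  have hXY : X (zv p) 1 2 ≤ Y L (zv p) 0 4 :=
    MFive.Inst.X_le_Y (by decide) (by decide) (by decide) (by decide) (by decide)
  have hO : o2 (X (zv p) 1 2) ≤ X (zv p) 1 2 := Cfsg.Agent.ZN.o2_le _
  have hcz : ∀ g ∈ X (zv p) 1 2, g * zv p 3 = zv p 3 * g := fun g hg => mem_X.1 hg 3 (by decide) (by decide)
  have hYX : ∀ g ∈ Y L (zv p) 0 4, g * zv p 3 * g⁻¹ = zv p 3 → g ∈ X (zv p) 1 2 := by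
    intro g hg h1
    have h2 := mem_centralizer_iff.1 (Y_le L (zv p) 0 4 hg)
    exact mem_X12.2 ⟨(h2 (p 4) (Or.inl rfl)).symm, comm_iff.1 h1, (h2 (p 3) (Or.inr rfl)).symm⟩
  have key := hML.grp (h.ctx.kproper _ (Y_ne_top h L))
    (C := Y L (zv p) 0 4) (W := N L (zv p) 0 4) (Y := ⊥) (T := TT (S : Subgroup G) p) (Q := o2 (X (zv p) 1 2))
    (A := F) (w := zv p 3)
    { nW := nc_norm _ _
      nY := by rw [hbot]; exact le_top
      YW := bot_le
      WY := by rw [hbot]; exact le_top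
      sq := fun x hx => by rw [hwab.1 x (N_le_W L (zv p) 0 4 hx)]; exact one_mem _
      mem := le_nc _ _ (subset_closure ⟨3, by decide, by decide, rfl⟩)
      gen := by
        intro U hzU _ hCU
        refine nc_le ((closure_le _).2 ?_) hCU
        rintro _ ⟨c, hc0, hc4, rfl⟩
        obtain ⟨σ, h3, h0, h4⟩ := perm_three (a := 3) (b := 0) (c := 4) (a' := c) (b' := 0) (c' := 4)
          (by decide) (by decide) (by decide) hc0 hc4 (by decide)
        obtain ⟨g, hg, h5⟩ := hfull σ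
        have hgY : g ∈ Y L (zv p) 0 4 := by
          refine mem_sup_left ⟨hg, mem_centralizer_iff.2 ?_⟩
          rintro y (rfl | rfl)
          · exact (comm_iff.1 ((h5 0).trans (by rw [h0]))).symm
          · exact (comm_iff.1 ((h5 4).trans (by rw [h4]))).symm
        have h6 := h5 3
        rw [h3] at h6
        rw [← h6]
        exact (mem_normalizer_iff.1 (hCU hgY) _).1 hzU
      TC := hT.1
      two := hT.2.1
      odd := syl_not_dvd hT
      fixT := fun t ht => by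
        rw [hcz t ht.2]
        simp
      QC := hO.trans hXY
      Q2 := ChoiceSit.isPGroup_o2 _
      fixQ := fun q hq => by
        rw [hcz q (hO hq)]
        simp
      nrmQ := fun g hg h0 q hq => by
        have h1 : g * zv p 3 * g⁻¹ = zv p 3 := mul_inv_eq_one.1 (mem_bot.1 h0)
        exact (mem_normalizer_iff.1 (Cfsg.Agent.MinSimple.VModule.le_normalizer_o2 _ (hYX g hg h1)) q).1 hq
      AQ := hFQ
      Asq := fun a ha x hx => by
        have h1 : a ^ 2 = 1 := hF.2 a ha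
        have e : a * (a * x * a⁻¹) * a⁻¹ * x⁻¹ = (a ^ 2) * x * (a ^ 2)⁻¹ * x⁻¹ := by simp [pow_two, mul_assoc]
        rw [e, h1]
        simp }
    (KA := F ⊓ centralizer (N L (zv p) 0 4 : Set G)) (CW := N L (zv p) 0 4 ⊓ centralizer (F : Set G))
    (fun a => by
      rw [mem_inf, mem_centralizer_iff]
      refine and_congr_right fun _ => forall₂_congr fun x _ => ?_
      rw [mem_bot, mul_inv_eq_one, mul_inv_eq_iff_eq_mul]
      exact eq_comm)
    (fun x => by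
      rw [mem_inf, mem_centralizer_iff]
      refine and_congr_right fun _ => forall₂_congr fun a _ => ?_
      rw [mem_bot, mul_inv_eq_one, mul_inv_eq_iff_eq_mul])
  rwa [inf_relIndex_left, inf_relIndex_left] at key

/-- **The frame of THEOREM M5 over `FiveL`**, with (T6). -/
theorem pre (hML : ML.Final.MLK.{u, u}) (hz : Cfsg.Agent.ZN.zc (o2 P) = zl (S : Subgroup G) P)
    (hX : ¬ X (zv p) 1 2 ≤ normalizer (zl (S : Subgroup G) P : Set G)) :
    Pre (normalizer (zl (S : Subgroup G) P : Set G)) (TT (S : Subgroup G) p) (o2 P) (S : Subgroup G) (zv p) where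
  sq a := h.std.sq _
  comm a b := h.std.comm _ _
  prod := prod_z h
  inj := (zfv h).inj
  act g hg := act_norm h hg
  full := full_L h
  NL := by rw [V_zv h]
  TL := inf_le_left.trans (SL h)
  TX := inf_le_right
  syl := syl_Y h hz
  sylS := syl_S h
  SL := SL h
  c2 := (wf_of h hX).c2
  sylQ := sylQ h
  QT := Q_le_T h
  zQ := fun x hx hx2 hc => by
    rw [V_zv h, ← hz]
    exact ChoiceBase.mem_zc.2 ⟨hx, by rw [pow_two]; exact hx2, hc⟩
  mv := exists_t h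
  no := no h hML hX (syl_Y h hz)

/-- **THEOREM M5 over `FiveL`**: `⟨N_G(V), C_G(p 2, p 3, p 4)⟩` is 2-local. -/
theorem local_five (hML : ML.Final.MLK.{u, u}) (hz : Cfsg.Agent.ZN.zc (o2 P) = zl (S : Subgroup G) P) :
    ∃ R : Subgroup G, R ≠ ⊥ ∧ IsPGroup 2 R ∧ normalizer (zl (S : Subgroup G) P : Set G) ≤ normalizer (R : Set G) ∧
      centralizer {p 2, p 3, p 4} ≤ normalizer (R : Set G) := by
  have hle : centralizer {p 2, p 3, p 4} ≤ X (zv p) 1 2 := by
    intro x hx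
    rw [mem_centralizer_iff] at hx
    exact mem_X12.2 ⟨(hx (p 4) (by simp)).symm, (hx (p 2) (by simp)).symm, (hx (p 3) (by simp)).symm⟩
  by_cases hX : X (zv p) 1 2 ≤ normalizer (zl (S : Subgroup G) P : Set G)
  · refine ⟨zl (S : Subgroup G) P, ?_, S.isPGroup'.to_le h.V_le, le_rfl, hle.trans hX⟩
    intro e
    have h1 := h.p_mem 4
    rw [e] at h1
    exact h.std.ne 4 (mem_bot.1 h1)
  · obtain ⟨R, h1, h2, h3, h4⟩ := ((pre h hML hz hX).fr5 hX).local
    exact ⟨R, h1, h2, h3, hle.trans h4⟩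

/-- THEOREM M5 at every stage `StgG`. -/
theorem local_stg {K B ZJ : Subgroup G} (hML : ML.Final.MLK.{u, u}) (hN : HypN S P) (hs : StgG S P K B ZJ) :
    ∃ R : Subgroup G, R ≠ ⊥ ∧ IsPGroup 2 R ∧ normalizer (zl (S : Subgroup G) P : Set G) ≤ normalizer (R : Set G) ∧
      centralizer {p 2, p 3, p 4} ≤ normalizer (R : Set G) :=
  local_five h hML (zc_o2_stg hN hs)

end frame

end Cfsg.Agent.Omega.NO3S.MFive.Inst

end
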